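import Mathlib
import Cfsg.Agent.Lib.Perm.MinimalDegree
import Cfsg.Agent.S3683

/-!
# Primitive groups with a suborbit of length three: first reductions

The arc stabiliser is a 2-group, and unless the point stabiliser has order three it acts on each
out-neighbourhood as the symmetric group.
-/

set_option autoImplicit false
set_option linter.unusedSectionVars false

namespace Cfsg.Agent.Perm.CubicSuborbit

open Cfsg.Agent.Perm.MinimalDegree MulAction Finset

variable {G Ω : Type*} [Group G] [MulAction G Ω]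

/-- A subgroup of index two, by cardinalities. -/
theorem mul_mem_of_half [Finite G] {P Q : Subgroup G} (hPQ : P ≤ Q)
    (hcard : Nat.card Q = 2 * Nat.card P) {x w : G} (hx : x ∈ Q) (hxP : x ∉ P) (hw : w ∈ Q)
    (hwP : w ∉ P) : x * w ∈ P := by
  have hidx : (P.subgroupOf Q).index = 2 := by
    have h := (P.subgroupOf Q).card_mul_index
    rw [Nat.card_congr (Subgroup.subgroupOfEquivOfLe hPQ).toEquiv, hcard] at h
    have := Nat.card_pos (α := P)
    nlinarith
  have h := Subgroup.mul_mem_iff_of_index_two hidx (a := (⟨x, hx⟩ : Q)) (b := ⟨w, hw⟩)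
  simp only [Subgroup.mem_subgroupOf] at h
  exact h.2 ⟨fun hh => absurd hh hxP, fun hh => absurd hh hwP⟩

/-- Index two via an orbit of length two. -/
theorem card_eq_two_mul [Finite G] {S T : Subgroup G} {z z' : Ω}
    (hT : ∀ h, h ∈ T ↔ h ∈ S ∧ h • z = z) (h2 : ∀ h ∈ S, h • z = z ∨ h • z = z') {x : G}
    (hx : x ∈ S) (hxz : x • z ≠ z) : Nat.card S = 2 * Nat.card T := by
  classical
  have hor : MulAction.orbit S z = {z, z'} := by
    ext u
    constructor
    · rintro ⟨h, rfl⟩
      exact h2 h h.2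
    · rintro (rfl | rfl)
      · exact MulAction.mem_orbit_self u
      · exact ⟨⟨x, hx⟩, (h2 x hx).resolve_left hxz⟩
  have hne : z ≠ z' := fun e => hxz ((h2 x hx).elim id fun h => h.trans e.symm)
  have hst : Nat.card (MulAction.stabilizer S z) = Nat.card T :=
    Nat.card_congr
      { toFun := fun h => ⟨(h.1 : G), (hT _).2 ⟨h.1.2, h.2⟩⟩
        invFun := fun h => ⟨⟨h.1, ((hT _).1 h.2).1⟩, ((hT _).1 h.2).2⟩
        left_inv := fun h => rfl
        right_inv := fun h => rfl }
  have h := Nat.card_congr (MulAction.orbitProdStabilizerEquivGroup S z)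
  rw [Nat.card_prod, hst, hor, Nat.card_coe_set_eq, Set.ncard_pair hne] at h
  exact h.symm

/-- The setting. -/
structure Data (G Ω : Type*) [Group G] [MulAction G Ω] where
  a : Ω
  b : Ω
  prim : MulAction.IsPreprimitive G Ω
  h3 : Nat.card (MulAction.orbit (MulAction.stabilizer G a) b) = 3

variable [Fintype Ω] (D : Data G Ω)

/-- The arcs of the orbital graph. -/
def Data.Arc (x y : Ω) : Prop := Rel G (D.a, D.b) (x, y)

/-- The pointwise stabiliser of an arc. -/
def Data.H (_D : Data G Ω) (x y : Ω) : Subgroup G := stabilizer G x ⊓ stabilizer G y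

theorem Data.mem_H {x y : Ω} {h : G} : h ∈ D.H x y ↔ h • x = x ∧ h • y = y := Iff.rfl

theorem Data.arc_ab : D.Arc D.a D.b := rel_refl _

theorem Data.arc_smul {x y : Ω} (h : D.Arc x y) (g : G) : D.Arc (g • x) (g • y) :=
  rel_trans h (rel_smul g (x, y))

theorem Data.ne : D.a ≠ D.b := by
  intro h
  have hor : MulAction.orbit (MulAction.stabilizer G D.a) D.b = {D.b} :=
    Set.ext fun u => ⟨fun ⟨k, hk⟩ => by
      rw [Set.mem_singleton_iff, ← hk, ← h]
      exact k.2, fun hu => by rw [hu]; exact MulAction.mem_orbit_self D.b⟩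
  have := D.h3
  rw [hor, Nat.card_coe_set_eq, Set.ncard_singleton] at this
  omega

theorem Data.arc_ne {x y : Ω} (h : D.Arc x y) : x ≠ y := by
  rintro rfl
  exact D.ne (rel_diag (rel_symm h))

theorem Data.exists_conj {x y : Ω} (h : D.Arc x y) : ∃ g : G, g • D.a = x ∧ g • D.b = y := by
  obtain ⟨g, hg⟩ := h
  rw [Prod.smul_mk, Prod.mk.injEq] at hg
  exact ⟨g, hg⟩

section

variable [Finite G]

theorem Data.card_H {x y : Ω} (h : D.Arc x y) : Nat.card (D.H x y) = Nat.card (D.H D.a D.b) := by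
  obtain ⟨g, rfl, rfl⟩ := D.exists_conj h
  have h1 : ∀ k ∈ D.H D.a D.b, g * k * g⁻¹ ∈ D.H (g • D.a) (g • D.b) := fun k hk =>
    ⟨by show (g * k * g⁻¹) • g • D.a = g • D.a; rw [mul_smul, mul_smul, inv_smul_smul, hk.1],
      by show (g * k * g⁻¹) • g • D.b = g • D.b; rw [mul_smul, mul_smul, inv_smul_smul, hk.2]⟩
  have h2 : ∀ k ∈ D.H (g • D.a) (g • D.b), g⁻¹ * k * g ∈ D.H D.a D.b := fun k hk =>
    ⟨by show (g⁻¹ * k * g) • D.a = D.a; rw [mul_smul, mul_smul, hk.1, inv_smul_smul],
      by show (g⁻¹ * k * g) • D.b = D.b; rw [mul_smul, mul_smul, hk.2, inv_smul_smul]⟩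
  exact (Nat.card_congr
    { toFun := fun k : D.H D.a D.b => (⟨g * k.1 * g⁻¹, h1 k.1 k.2⟩ : D.H (g • D.a) (g • D.b))
      invFun := fun k => ⟨g⁻¹ * k.1 * g, h2 k.1 k.2⟩
      left_inv := fun k => Subtype.ext (show g⁻¹ * (g * k.1 * g⁻¹) * g = k.1 by group)
      right_inv := fun k => Subtype.ext (show g * (g⁻¹ * k.1 * g) * g⁻¹ = k.1 by group) }).symm

theorem Data.card_stab_eq (x : Ω) :
    Nat.card (stabilizer G x) = 3 * Nat.card (D.H D.a D.b) := by
  haveI := D.prim
  obtain ⟨g, rfl⟩ := MulAction.exists_smul_eq G D.a x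
  have h1 : Nat.card (stabilizer G (g • D.a)) = Nat.card (stabilizer G D.a) :=
    Nat.card_congr (MulAction.stabilizerEquivStabilizer (g := g) (a := D.a) (b := g • D.a) rfl).toEquiv.symm
  have hst : Nat.card (MulAction.stabilizer (stabilizer G D.a) D.b) = Nat.card (D.H D.a D.b) :=
    Nat.card_congr
      { toFun := fun h => ⟨(h.1 : G), h.1.2, h.2⟩
        invFun := fun h => ⟨⟨h.1, h.2.1⟩, h.2.2⟩
        left_inv := fun h => rfl
        right_inv := fun h => rfl }
  have h := Nat.card_congr (MulAction.orbitProdStabilizerEquivGroup (stabilizer G D.a) D.b)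
  rw [Nat.card_prod, hst, D.h3] at h
  rw [h1, h]

theorem Data.card_out (x : Ω) : #(out G D.a D.b x) = 3 := by
  classical
  haveI := D.prim
  rw [MinimalDegree.card_out D.a D.b x D.a, ← D.h3, ← Nat.card_eq_finsetCard]
  refine Nat.card_congr (Equiv.subtypeEquivRight fun z => ?_)
  rw [mem_out]
  constructor
  · rintro ⟨g, hg⟩
    rw [Prod.smul_mk, Prod.mk.injEq] at hg
    exact ⟨⟨g, hg.1⟩, hg.2⟩
  · rintro ⟨⟨g, hg⟩, rfl⟩
    exact ⟨g, Prod.ext hg rfl⟩

variable [FaithfulSMul G Ω]

theorem Data.stab_ne_bot (D : Data G Ω) (x : Ω) : stabilizer G x ≠ ⊥ := by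
  intro h
  have := D.card_stab_eq x
  rw [h, Subgroup.card_bot] at this
  omega

/-- A subgroup fixing a point, normalised by its stabiliser and by an element moving it, is
trivial. -/
theorem Data.eq_bot (D : Data G Ω) {R : Subgroup G} {p : Ω} (hR : R ≤ stabilizer G p)
    (hA : stabilizer G p ≤ Subgroup.normalizer (R : Set G)) {g : G}
    (hg : g ∈ Subgroup.normalizer (R : Set G)) (hgp : g • p ≠ p) : R = ⊥ := by
  haveI := D.prim
  haveI : Nontrivial Ω := ⟨⟨g • p, p, hgp⟩⟩
  have hco : IsCoatom (stabilizer G p) := (isCoatom_stabilizer_iff_preprimitive G p).2 D.prim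
  have htop : Subgroup.normalizer (R : Set G) = ⊤ :=
    hco.2 _ (lt_of_le_of_ne hA fun h => hgp (by rw [← h] at hg; exact hg))
  refine (Subgroup.eq_bot_iff_forall _).2 fun r hr =>
    FaithfulSMul.eq_of_smul_eq_smul (α := Ω) fun y => ?_
  obtain ⟨k, rfl⟩ := exists_smul_eq G p y
  have hk : k⁻¹ ∈ Subgroup.normalizer (R : Set G) := htop ▸ Subgroup.mem_top _
  have h1 := hR ((Subgroup.mem_normalizer_iff.1 hk r).1 hr)
  rw [mem_stabilizer_iff, inv_inv, mul_smul, mul_smul, inv_smul_eq_iff] at h1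
  rw [one_smul]
  exact h1

theorem Data.exists_move (D : Data G Ω) {p q : Ω} (hpq : p ≠ q) : ∃ h : G, h • q = q ∧ h • p ≠ p := by
  by_contra hh
  push Not at hh
  haveI := D.prim
  haveI : Finite Ω := by
    haveI : Nonempty Ω := ⟨p⟩
    exact Finite.of_surjective (fun g : G => g • p) fun x => MulAction.exists_smul_eq G p x
  exact D.stab_ne_bot q (Cfsg.Agent.S3683.result D.prim q p (Ne.symm hpq) hh).1

/-- A subgroup fixing a point and normalised by two point stabilisers is trivial. -/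
theorem Data.eq_bot_of_two (D : Data G Ω) {R : Subgroup G} {p q : Ω} (hpq : p ≠ q) (hR : R ≤ stabilizer G p)
    (hA : stabilizer G p ≤ Subgroup.normalizer (R : Set G))
    (hB : stabilizer G q ≤ Subgroup.normalizer (R : Set G)) : R = ⊥ := by
  obtain ⟨h, hq, hp⟩ := D.exists_move hpq
  exact D.eq_bot hR hA (hB hq) hp

end

theorem smul_eq_of_odd {h : G} {c : Ω} (hodd : Odd (orderOf h)) (h2 : h • h • c = c) :
    h • c = c := by
  have h1 : h ^ 2 ∈ stabilizer G c := by rw [mem_stabilizer_iff, pow_two, mul_smul, h2]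
  obtain ⟨k, hk⟩ := hodd
  have h4 : h = (h ^ 2) ^ (k + 1) := by
    rw [← pow_mul, show 2 * (k + 1) = orderOf h + 1 by omega, pow_succ, pow_orderOf_eq_one, one_mul]
  rw [h4]
  exact (stabilizer G c).pow_mem h1 (k + 1)

/-- An element of odd order fixing one of three permuted points fixes all. -/
theorem fix_of_odd {s : Finset Ω} (hs : #s = 3) {h : G} (hinv : ∀ z ∈ s, h • z ∈ s) {z₀ : Ω}
    (hz₀ : z₀ ∈ s) (hfix : h • z₀ = z₀) (hodd : Odd (orderOf h)) : ∀ z ∈ s, h • z = z := by
  classical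
  intro z hz
  refine smul_eq_of_odd hodd ?_
  by_contra hne
  have hne0 : z ≠ z₀ := by rintro rfl; exact hne (by rw [hfix, hfix])
  have hne1 : h • z ≠ z := fun e => hne (by rw [e, e])
  have hne2 : h • z ≠ z₀ := fun e => hne0 (MulAction.injective h (e.trans hfix.symm))
  have hne3 : h • h • z ≠ z₀ := fun e => hne2 (MulAction.injective h (e.trans hfix.symm))
  have hne4 : h • h • z ≠ h • z := fun e => hne1 (MulAction.injective h e)
  have hsub : ({z₀, z, h • z, h • h • z} : Finset Ω) ⊆ s := by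
    simp only [insert_subset_iff, singleton_subset_iff]
    exact ⟨hz₀, hz, hinv z hz, hinv _ (hinv z hz)⟩
  have hc : #({z₀, z, h • z, h • h • z} : Finset Ω) = 4 := by
    simp [hne0.symm, hne2.symm, hne3.symm, hne1.symm, Ne.symm hne, hne4.symm]
  have := card_le_card hsub
  omega

variable [Finite G] [FaithfulSMul G Ω]

omit [FaithfulSMul G Ω] in
theorem Data.out_inv {x : Ω} {h : G} (hx : h • x = x) {z : Ω} (hz : z ∈ out G D.a D.b x) :
    h • z ∈ out G D.a D.b x := by
  haveI := D.prim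
  rw [mem_out] at hz ⊢
  have := D.arc_smul hz h
  rwa [hx] at this

/-- No odd prime divides the order of an arc stabiliser. -/
theorem Data.two_group : ∀ h ∈ D.H D.a D.b, Odd (orderOf h) → h = 1 := by
  classical
  haveI := D.prim
  set S : Set G := {h | h ∈ D.H D.a D.b ∧ Odd (orderOf h)} with hS
  have hA : ∀ h, h ∈ S ↔ h • D.a = D.a ∧ (∀ z ∈ out G D.a D.b D.a, h • z = z) ∧ Odd (orderOf h) := by
    intro h
    have hb : D.b ∈ out G D.a D.b D.a := mem_out.2 D.arc_ab
    exact ⟨fun ⟨⟨h1, h2⟩, h3⟩ => ⟨h1, fix_of_odd (D.card_out D.a) (fun z hz => D.out_inv h1 hz) hb h2 h3, h3⟩,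
      fun ⟨h1, h2, h3⟩ => ⟨⟨h1, h2 _ hb⟩, h3⟩⟩
  have hin : #(out G D.b D.a D.b) = 3 := by
    rw [MinimalDegree.card_out_swap, D.card_out]
  have hB : ∀ h, h ∈ S ↔ h • D.b = D.b ∧ (∀ z ∈ out G D.b D.a D.b, h • z = z) ∧ Odd (orderOf h) := by
    intro h
    have ha : D.a ∈ out G D.b D.a D.b := mem_out.2 (rel_refl _)
    refine ⟨fun ⟨⟨h1, h2⟩, h3⟩ => ⟨h2, fix_of_odd hin (fun z hz => ?_) ha h1 h3, h3⟩,
      fun ⟨h1, h2, h3⟩ => ⟨⟨h2 _ ha, h1⟩, h3⟩⟩
    rw [mem_out] at hz ⊢
    have := rel_trans hz (rel_smul h (D.b, z))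
    rwa [Prod.smul_mk, h2] at this
  have hodd : ∀ k h : G, Odd (orderOf h) → Odd (orderOf (k * h * k⁻¹)) := fun k h hh => by
    rwa [show k * h * k⁻¹ = MulAut.conj k h from rfl, MulEquiv.orderOf_eq]
  have key : ∀ (p : Ω) (s : Finset Ω), (∀ k : G, k • p = p → ∀ z ∈ s, k • z ∈ s) →
      (∀ h, h ∈ S ↔ h • p = p ∧ (∀ z ∈ s, h • z = z) ∧ Odd (orderOf h)) →
      stabilizer G p ≤ Subgroup.normalizer ((Subgroup.closure S : Subgroup G) : Set G) := by
    intro p s hinv hiff k hk
    have hmap : ∀ k : G, k • p = p → ∀ h ∈ Subgroup.closure S, k * h * k⁻¹ ∈ Subgroup.closure S := by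
      intro k hk h hh
      induction hh using Subgroup.closure_induction with
      | mem h hh =>
        obtain ⟨h1, h2, h3⟩ := (hiff h).1 hh
        have hk' : k⁻¹ • p = p := inv_smul_eq_iff.2 hk.symm
        refine Subgroup.subset_closure ((hiff _).2 ⟨?_, fun z hz => ?_, hodd k h h3⟩)
        · rw [mul_smul, mul_smul, hk', h1, hk]
        · rw [mul_smul, mul_smul, h2 _ (hinv _ hk' z hz), smul_inv_smul]
      | one => simp
      | mul x y _ _ hx hy =>
        have := (Subgroup.closure S).mul_mem hx hy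
        simpa [mul_assoc] using this
      | inv x _ hx =>
        have := (Subgroup.closure S).inv_mem hx
        simpa [mul_assoc] using this
    rw [Subgroup.mem_normalizer_iff]
    intro h
    refine ⟨hmap k hk h, fun hh => ?_⟩
    have := hmap k⁻¹ (inv_smul_eq_iff.2 (Eq.symm hk)) _ hh
    simpa [mul_assoc] using this
  have hbot : Subgroup.closure S = ⊥ := by
    refine D.eq_bot_of_two D.ne ((Subgroup.closure_le _).2 fun h hh => ((hA h).1 hh).1)
      (key D.a _ (fun k hk z hz => D.out_inv hk hz) hA)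
      (key D.b _ (fun k hk z hz => ?_) hB)
    rw [mem_out] at hz ⊢
    have := rel_trans hz (rel_smul k (D.b, z))
    rwa [Prod.smul_mk, hk] at this
  intro h hh hodd
  exact Subgroup.mem_bot.1 (hbot ▸ Subgroup.subset_closure ⟨hh, hodd⟩)

theorem Data.isPGroup_H {x y : Ω} (h : D.Arc x y) : IsPGroup 2 (D.H x y) := by
  haveI : Fact (Nat.Prime 2) := ⟨Nat.prime_two⟩
  obtain ⟨k, hk⟩ : ∃ k, Nat.card (D.H x y) = 2 ^ k := by
    refine ⟨_, Nat.eq_prime_pow_of_unique_prime_dvd Nat.card_pos.ne' fun {q} hq hdvd => ?_⟩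
    rw [D.card_H h] at hdvd
    haveI := Fact.mk hq
    obtain ⟨z, hz⟩ := exists_prime_orderOf_dvd_card' q hdvd
    rcases hq.eq_two_or_odd' with rfl | hodd
    · rfl
    · have h1 : z = 1 := Subtype.ext (D.two_group z.1 z.2 (by rw [Subgroup.orderOf_coe, hz]; exact hodd))
      rw [h1, orderOf_one] at hz
      exact absurd hz.symm hq.ne_one
  exact IsPGroup.of_card hk

/-- Every arc stabiliser moves some out-neighbour of its first point. -/
def Data.IsSym : Prop := ∀ x y, D.Arc x y → ∃ h ∈ D.H x y, ∃ z, D.Arc x z ∧ h • z ≠ z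

/-- A 2-group on three points has a fixed one. -/
theorem Data.exists_fixed {x y : Ω} (h : D.Arc x y) :
    ∃ c, D.Arc y c ∧ ∀ k ∈ D.H x y, k • c = c := by
  classical
  haveI := D.prim
  haveI : Fact (Nat.Prime 2) := ⟨Nat.prime_two⟩
  let α := {c : Ω // c ∈ out G D.a D.b y}
  letI : MulAction (D.H x y) α :=
    { smul := fun k c => ⟨(k : G) • c.1, D.out_inv k.2.2 c.2⟩
      one_smul := fun c => Subtype.ext (one_smul G c.1)
      mul_smul := fun k l c => Subtype.ext (mul_smul (k : G) l c.1) }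
  haveI : Nonempty (MulAction.fixedPoints (D.H x y) α) := by
    refine ((D.isPGroup_H h).nonempty_fixed_point_of_prime_not_dvd_card α ?_).to_subtype
    rw [Nat.card_eq_fintype_card, Fintype.card_coe, D.card_out]
    decide
  obtain ⟨⟨c, hc⟩⟩ := this
  exact ⟨c.1, mem_out.1 c.2, fun k hk => congrArg Subtype.val (hc ⟨k, hk⟩)⟩

theorem Data.H_eq_next {x y c : Ω} (h : D.Arc x y) (hc : D.Arc y c)
    (hfix : ∀ k ∈ D.H x y, k • c = c) : D.H x y = D.H y c :=
  Subgroup.eq_of_le_of_card_ge (fun k hk => ⟨hk.2, hfix k hk⟩) (by rw [D.card_H h, D.card_H hc])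

/-- The regular case. -/
theorem Data.isSym_or_card (D : Data G Ω) :
    D.IsSym ∨ Nat.card (stabilizer G D.a) = 3 := by
  classical
  by_cases hsym : D.IsSym
  · exact Or.inl hsym
  right
  have hall : ∀ x y, D.Arc x y → ∀ h ∈ D.H x y, ∀ z, D.Arc x z → h • z = z := by
    intro x y hxy h hh z hz
    by_contra hne
    apply hsym
    intro x' y' hxy'
    obtain ⟨g, rfl, rfl⟩ := D.exists_conj hxy
    obtain ⟨g', rfl, rfl⟩ := D.exists_conj hxy'
    set k := g' * g⁻¹ with hk
    have hk1 : ∀ u : Ω, k • g • u = g' • u := fun u => by rw [hk, mul_smul, inv_smul_smul]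
    refine ⟨k * h * k⁻¹, ⟨?_, ?_⟩, k • z, ?_, ?_⟩
    · show (k * h * k⁻¹) • g' • D.a = g' • D.a
      rw [← hk1, mul_smul, mul_smul, inv_smul_smul, hh.1]
    · show (k * h * k⁻¹) • g' • D.b = g' • D.b
      rw [← hk1, mul_smul, mul_smul, inv_smul_smul, hh.2]
    · rw [← hk1]
      exact D.arc_smul hz k
    · rw [mul_smul, mul_smul, inv_smul_smul]
      exact fun e => hne (MulAction.injective k e)
  have hnorm : ∀ x y, D.Arc x y → stabilizer G x ≤ Subgroup.normalizer (D.H x y : Set G) := by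
    intro x y hxy k hk
    have hmap : ∀ k ∈ stabilizer G x, ∀ h ∈ D.H x y, k * h * k⁻¹ ∈ D.H x y := by
      intro k hk h hh
      have hk' : k⁻¹ • x = x := inv_smul_eq_iff.2 (Eq.symm hk)
      refine ⟨by show (k * h * k⁻¹) • x = x; rw [mul_smul, mul_smul, hk', hh.1, hk], ?_⟩
      show (k * h * k⁻¹) • y = y
      rw [mul_smul, mul_smul, hall x y hxy h hh (k⁻¹ • y) (by
        have := D.arc_smul hxy k⁻¹; rwa [hk'] at this), smul_inv_smul]
    rw [Subgroup.mem_normalizer_iff]
    refine fun h => ⟨hmap k hk h, fun hh => ?_⟩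
    have := hmap k⁻¹ ((stabilizer G x).inv_mem hk) _ hh
    simpa [mul_assoc] using this
  obtain ⟨c, hc, hfix⟩ := D.exists_fixed D.arc_ab
  have heq := D.H_eq_next D.arc_ab hc hfix
  have hbot : D.H D.a D.b = ⊥ :=
    D.eq_bot_of_two D.ne inf_le_left (hnorm _ _ D.arc_ab) (by rw [heq]; exact hnorm _ _ hc)
  rw [D.card_stab_eq, hbot, Subgroup.card_bot]

/-- In the symmetric case the two other continuations of an arc are swapped. -/
theorem Data.exists_allowed (hsym : D.IsSym) {x y : Ω} (h : D.Arc x y) :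
    ∃ c d, c ≠ d ∧ D.Arc y c ∧ D.Arc y d ∧ (∃ k ∈ D.H x y, k • c = d) ∧
      (∀ k ∈ D.H x y, k • c = c ∨ k • c = d) ∧
      (∀ k ∈ D.H x y, k • c = c → ∀ z, D.Arc y z → k • z = z) := by
  classical
  haveI := D.prim
  obtain ⟨c₀, hc₀, hfix⟩ := D.exists_fixed h
  have heq := D.H_eq_next h hc₀ hfix
  obtain ⟨k, hk, c, hc, hne⟩ := hsym y c₀ hc₀
  rw [← heq] at hk
  have hm : ∀ z, D.Arc y z ↔ z ∈ out G D.a D.b y := fun z => mem_out.symm
  have hd : D.Arc y (k • c) := by have := D.arc_smul hc k; rwa [hk.2] at this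
  have hs : out G D.a D.b y = {c₀, c, k • c} := by
    symm
    refine eq_of_subset_of_card_le ?_ ?_
    · simp only [insert_subset_iff, singleton_subset_iff, ← hm]
      exact ⟨hc₀, hc, hd⟩
    · have hcc : c ≠ c₀ := fun e => hne (by rw [e]; exact hfix k hk)
      have hcd : k • c ≠ c₀ := fun e => hcc (MulAction.injective k (e.trans (hfix k hk).symm))
      rw [D.card_out]
      simp [hcc.symm, hcd.symm, Ne.symm hne]
  have hcases : ∀ z, D.Arc y z → z = c₀ ∨ z = c ∨ z = k • c := fun z hz => by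
    rw [hm, hs] at hz
    simpa using hz
  have hcc : c ≠ c₀ := fun e => hne (by rw [e]; exact hfix k hk)
  refine ⟨c, k • c, Ne.symm hne, hc, hd, ⟨k, hk, rfl⟩, fun l hl => ?_, fun l hl hlc z hz => ?_⟩
  · have h1 : D.Arc y (l • c) := by have := D.arc_smul hc l; rwa [hl.2] at this
    rcases hcases _ h1 with e | e | e
    · exact absurd (MulAction.injective l (e.trans (hfix l hl).symm)) hcc
    · exact Or.inl e
    · exact Or.inr e
  · rcases hcases z hz with rfl | rfl | rfl
    · exact hfix l hl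
    · exact hlc
    · have h1 : D.Arc y (l • k • c) := by have := D.arc_smul hd l; rwa [hl.2] at this
      rcases hcases _ h1 with e | e | e
      · exact absurd (MulAction.injective l (e.trans (hfix l hl).symm))
          (fun e' => hcc (MulAction.injective k (e'.trans (hfix k hk).symm)))
      · exact absurd (MulAction.injective l (e.trans hlc.symm)) hne
      · exact e

end Cfsg.Agent.Perm.CubicSuborbit
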