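import Mathlib
import Cfsg.Agent.Lib.Perm.CubicSuborbit.Basic

/-!
# The stabilisers of the segments of a path (Tutte's regularity)

For a path `f i = g ^ i • a` without distinguished steps, the pointwise stabiliser of the
segment of length `j` has order `2 ^ (n + 1 - j)`, and is trivial for `j = n + 1`.
-/

set_option autoImplicit false
set_option linter.unusedSectionVars false

namespace Cfsg.Agent.Perm.CubicSuborbit

open MulAction

variable {G Ω : Type*} [Group G] [MulAction G Ω]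

/-- The points of the path. -/
def Data.f (D : Data G Ω) (g : G) (i : ℤ) : Ω := g ^ i • D.a

/-- The pointwise stabiliser of the segment from `i` to `j`. -/
def Data.S (D : Data G Ω) (g : G) (i j : ℤ) : Subgroup G :=
  ⨅ k ∈ Set.Icc i j, stabilizer G (D.f g k)

theorem Data.mem_S {D : Data G Ω} {g : G} {i j : ℤ} {h : G} :
    h ∈ D.S g i j ↔ ∀ k, i ≤ k → k ≤ j → h • D.f g k = D.f g k := by
  simp [Data.S, Subgroup.mem_iInf]

theorem Data.S_mono {D : Data G Ω} {g : G} {i j i' j' : ℤ} (h1 : i ≤ i') (h2 : j' ≤ j) :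
    D.S g i j ≤ D.S g i' j' := fun h hh =>
  Data.mem_S.2 fun k hk hk' => Data.mem_S.1 hh k (h1.trans hk) (hk'.trans h2)

theorem Data.f_add {D : Data G Ω} {g : G} (d i : ℤ) : g ^ d • D.f g i = D.f g (d + i) := by
  simp [Data.f, ← mul_smul, zpow_add]

theorem Data.conj_mem {D : Data G Ω} {g h : G} {i j : ℤ} (hh : h ∈ D.S g i j) (d : ℤ) :
    g ^ d * h * g ^ (-d) ∈ D.S g (i + d) (j + d) := by
  refine Data.mem_S.2 fun k hk hk' => ?_
  rw [mul_smul, mul_smul, Data.f_add, Data.mem_S.1 hh (-d + k) (by omega) (by omega), Data.f_add]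
  congr 1
  omega

theorem Data.S_self {D : Data G Ω} {g : G} (i : ℤ) : D.S g i i = stabilizer G (D.f g i) := by
  ext h
  rw [Data.mem_S, mem_stabilizer_iff]
  exact ⟨fun h1 => h1 i le_rfl le_rfl, fun h1 k hk hk' => by rw [show k = i by omega]; exact h1⟩

theorem Data.S_succ {D : Data G Ω} {g : G} {i j : ℤ} (hij : i ≤ j + 1) {h : G} :
    h ∈ D.S g i (j + 1) ↔ h ∈ D.S g i j ∧ h • D.f g (j + 1) = D.f g (j + 1) := by
  rw [Data.mem_S, Data.mem_S]
  refine ⟨fun h1 => ⟨fun k hk hk' => h1 k hk (by omega), h1 _ hij le_rfl⟩, fun ⟨h1, h2⟩ k hk hk' => ?_⟩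
  rcases eq_or_lt_of_le hk' with rfl | h3
  · exact h2
  · exact h1 k hk (by omega)

variable [Finite G]

theorem Data.card_S_shift {D : Data G Ω} {g : G} (i j d : ℤ) :
    Nat.card (D.S g (i + d) (j + d)) = Nat.card (D.S g i j) := by
  have key : ∀ i j d : ℤ, Nat.card (D.S g i j) ≤ Nat.card (D.S g (i + d) (j + d)) := fun i j d =>
    Nat.card_le_card_of_injective
      (fun h : D.S g i j => (⟨g ^ d * h.1 * g ^ (-d), Data.conj_mem h.2 d⟩ : D.S g (i + d) (j + d)))
      fun h h' e => Subtype.ext (by simpa using congrArg Subtype.val e)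
  refine le_antisymm ?_ (key i j d)
  have := key (i + d) (j + d) (-d)
  rwa [add_neg_cancel_right, add_neg_cancel_right] at this

variable [Fintype Ω] [FaithfulSMul G Ω]

/-- The data of a regular path. -/
structure Stage (G Ω : Type*) [Group G] [MulAction G Ω] where
  D : Data G Ω
  g : G
  n : ℕ
  hn : 1 ≤ n
  card_arc : ∀ j : ℕ, 1 ≤ j → j ≤ n + 1 → Nat.card (D.S g 0 j) = 2 ^ (n + 1 - j)
  card_vertex : Nat.card (D.S g 0 0) = 3 * 2 ^ n
  nonnormal : ∃ h ∈ D.S g 0 1, ∃ k ∈ D.S g 0 0, k * h * k⁻¹ ∉ D.S g 0 1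

theorem Data.exists_stage (D : Data G Ω) (hsym : D.IsSym) :
    ∃ St : Stage G Ω, St.D = D := by
  classical
  haveI := D.prim
  obtain ⟨c₁, c₂, -, hc₁, -, -, hswap0, hfix0⟩ := D.exists_allowed hsym D.arc_ab
  obtain ⟨g, hga, hgb⟩ := D.exists_conj hc₁
  have hf0 : D.f g 0 = D.a := by simp [Data.f]
  have hf1 : D.f g 1 = D.b := by simp [Data.f, hga]
  have hf2 : D.f g 2 = c₁ := by
    show g ^ (2 : ℤ) • D.a = c₁
    rw [zpow_two, mul_smul, hga, hgb]
  have hS01 : D.S g 0 1 = D.H D.a D.b := by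
    ext h
    rw [show (1 : ℤ) = 0 + 1 from rfl, Data.S_succ (by norm_num), Data.S_self, zero_add, hf0, hf1]
    rfl
  have hS00 : D.S g 0 0 = stabilizer G D.a := by rw [Data.S_self, hf0]
  -- the two continuations at every step of the path
  have hstep : ∀ i : ℤ, ∃ z', (∀ h ∈ D.S g i (i + 1),
        h • D.f g (i + 2) = D.f g (i + 2) ∨ h • D.f g (i + 2) = z') ∧
      (∀ h ∈ D.S g i (i + 1), h • D.f g (i + 2) = D.f g (i + 2) →
        ∀ z, D.Arc (D.f g (i + 1)) z → h • z = z) := by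
    intro i
    have hconj : ∀ h ∈ D.S g i (i + 1), g ^ (-i) * h * g ^ i ∈ D.H D.a D.b := fun h hh => by
      have := Data.conj_mem hh (-i)
      rw [neg_neg, show i + -i = 0 by omega, show i + 1 + -i = 1 by omega, hS01] at this
      exact this
    have hback : ∀ h : G, ∀ z : Ω, h • (g ^ i • z) = g ^ i • ((g ^ (-i) * h * g ^ i) • z) := fun h z => by
      simp [← mul_smul, ← mul_assoc]
    have e2 : D.f g (i + 2) = g ^ i • c₁ := by rw [← hf2, Data.f_add]
    have e1 : D.f g (i + 1) = g ^ i • D.b := by rw [← hf1, Data.f_add]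
    refine ⟨g ^ i • c₂, fun h hh => ?_, fun h hh hfix z hz => ?_⟩
    · rw [e2, hback]
      rcases hswap0 _ (hconj h hh) with e | e <;> rw [e]
      · exact Or.inl rfl
      · exact Or.inr rfl
    · rw [e2, hback] at hfix
      have h1 := hfix0 _ (hconj h hh) (MulAction.injective _ hfix) (g ^ (-i) • z) (by
        have := D.arc_smul hz (g ^ (-i))
        rwa [e1, ← mul_smul, ← zpow_add, neg_add_cancel, zpow_zero, one_smul] at this)
      have h2 := hback h (g ^ (-i) • z)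
      rw [h1, show g ^ i • g ^ (-i) • z = z by
        rw [← mul_smul, ← zpow_add, add_neg_cancel, zpow_zero, one_smul]] at h2
      exact h2
  have harc : ∀ i : ℤ, D.Arc (D.f g i) (D.f g (i + 1)) := fun i => by
    have := D.arc_smul D.arc_ab (g ^ i)
    rwa [← hf1, Data.f_add, ← hf0, Data.f_add, add_zero] at this
  -- the first stationary segment
  have hstat : ∃ s : ℕ, 1 ≤ s ∧ D.S g 0 ((s : ℤ) + 1) = D.S g 0 s := by
    by_contra hno
    push Not at hno
    have hdec : ∀ k : ℕ, Nat.card (D.S g 0 ((k : ℤ) + 1)) + k ≤ Nat.card (D.S g 0 1) := by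
      intro k
      induction k with
      | zero => simp
      | succ k ih =>
        have hle : D.S g 0 ((k : ℤ) + 1 + 1) ≤ D.S g 0 ((k : ℤ) + 1) := Data.S_mono le_rfl (by omega)
        have hne := hno (k + 1) (by omega)
        push_cast at hne ⊢
        have : Nat.card (D.S g 0 ((k : ℤ) + 1 + 1)) < Nat.card (D.S g 0 ((k : ℤ) + 1)) := by
          by_contra h
          exact hne (Subgroup.eq_of_le_of_card_ge hle (not_lt.1 h))
        omega
    have := hdec (Nat.card (D.S g 0 1))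
    have := Nat.card_pos (α := D.S g 0 ((Nat.card (D.S g 0 1) : ℤ) + 1))
    omega
  obtain ⟨hs1, hs⟩ := Nat.find_spec hstat
  set s := Nat.find hstat with hsdef
  have hmin : ∀ j : ℕ, 1 ≤ j → j < s → D.S g 0 ((j : ℤ) + 1) ≠ D.S g 0 j := fun j hj1 hj e =>
    Nat.find_min hstat hj ⟨hj1, e⟩
  have htwo : ∀ j : ℕ, 1 ≤ j → j < s →
      Nat.card (D.S g 0 j) = 2 * Nat.card (D.S g 0 ((j : ℤ) + 1)) := by
    intro j hj1 hj
    obtain ⟨z', hz', -⟩ := hstep ((j : ℤ) - 1)
    obtain ⟨x, hx, hx'⟩ : ∃ x ∈ D.S g 0 (j : ℤ), x • D.f g ((j : ℤ) + 1) ≠ D.f g ((j : ℤ) + 1) := by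
      by_contra h
      push Not at h
      exact hmin j hj1 hj (le_antisymm (Data.S_mono le_rfl (by omega))
        fun x hx => (Data.S_succ (by omega)).2 ⟨hx, h x hx⟩)
    refine card_eq_two_mul (z := D.f g ((j : ℤ) + 1)) (z' := z')
      (fun h => Data.S_succ (by omega)) (fun h hh => ?_) hx hx'
    have := hz' h (Data.S_mono (by omega) (by omega) hh)
    rwa [show (j : ℤ) - 1 + 2 = (j : ℤ) + 1 by omega] at this
  have hvert : Nat.card (D.S g 0 0) = 3 * Nat.card (D.S g 0 1) := by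
    rw [hS00, hS01, D.card_stab_eq]
  -- the last segment has trivial stabiliser
  set U := D.S g 0 (s : ℤ) with hU
  have hU1 : D.S g 1 ((s : ℤ) + 1) = U := by
    refine (Subgroup.eq_of_le_of_card_ge (hs ▸ Data.S_mono (by omega) le_rfl) ?_).symm
    have := Data.card_S_shift (D := D) (g := g) 0 (s : ℤ) 1
    rw [zero_add] at this
    exact this.le
  set N := Subgroup.normalizer (U : Set G)
  have hgN : g ∈ N := by
    have hconj : ∀ u ∈ U, g * u * g⁻¹ ∈ U := fun u hu => by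
      have := Data.conj_mem hu 1
      rw [zero_add, hU1] at this
      simpa using this
    rw [Subgroup.mem_normalizer_iff]
    refine fun u => ⟨hconj u, fun hu => ?_⟩
    rw [← hU1] at hu
    have := Data.conj_mem hu (-1)
    rw [show (1 : ℤ) + -1 = 0 by omega, show (s : ℤ) + 1 + -1 = s by omega] at this
    simpa [hU, mul_assoc] using this
  obtain ⟨x, hx, hx'⟩ : ∃ x ∈ D.S g 1 (s : ℤ), x • D.f g ((s : ℤ) + 1) ≠ D.f g ((s : ℤ) + 1) := by
    by_contra h
    push Not at h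
    have heq : D.S g 1 ((s : ℤ) + 1) = D.S g 1 s := le_antisymm (Data.S_mono le_rfl (by omega))
      fun x hx => (Data.S_succ (by omega)).2 ⟨hx, h x hx⟩
    have e1 := Data.card_S_shift (D := D) (g := g) 0 ((s : ℤ) - 1) 1
    rw [zero_add, sub_add_cancel, ← heq, hU1, hU] at e1
    obtain ⟨j, hj⟩ : ∃ j, s = j + 1 := ⟨s - 1, by omega⟩
    rw [hj] at e1
    push_cast at e1
    rw [add_sub_cancel_right] at e1
    rcases Nat.eq_zero_or_pos j with rfl | hjp
    · have := Nat.card_pos (α := D.S g 0 1)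
      simp only [Nat.cast_zero, zero_add] at e1
      omega
    · have := htwo j hjp (by omega)
      have := Nat.card_pos (α := D.S g 0 ((j : ℤ) + 1))
      omega
  have hxN : x ∈ N := by
    obtain ⟨-, -, hfix⟩ := hstep ((s : ℤ) - 1)
    rw [show (s : ℤ) - 1 + 1 = s by omega, show (s : ℤ) - 1 + 2 = (s : ℤ) + 1 by omega] at hfix
    have hconj : ∀ k ∈ D.S g 1 (s : ℤ), ∀ u ∈ U, k * u * k⁻¹ ∈ U := by
      intro k hk u hu
      have hk' : k⁻¹ ∈ D.S g 1 (s : ℤ) := (D.S g 1 (s : ℤ)).inv_mem hk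
      have hu1 : u ∈ D.S g 1 (s : ℤ) := Data.S_mono (by omega) le_rfl hu
      have hu2 : u • D.f g ((s : ℤ) + 1) = D.f g ((s : ℤ) + 1) :=
        ((Data.S_succ (by omega)).1 (hs ▸ hu : u ∈ D.S g 0 ((s : ℤ) + 1))).2
      rw [← hU1]
      refine (Data.S_succ (by omega)).2 ⟨(D.S g 1 _).mul_mem ((D.S g 1 _).mul_mem hk hu1) hk', ?_⟩
      have harc' : D.Arc (D.f g (s : ℤ)) (k⁻¹ • D.f g ((s : ℤ) + 1)) := by
        have := D.arc_smul (harc (s : ℤ)) k⁻¹
        rwa [Data.mem_S.1 hk' (s : ℤ) (by omega) le_rfl] at this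
      rw [mul_smul, mul_smul, hfix u (Data.S_mono (by omega) le_rfl hu) hu2 _ harc', smul_inv_smul]
    rw [Subgroup.mem_normalizer_iff]
    refine fun u => ⟨hconj x hx u, fun hu => ?_⟩
    have := hconj x⁻¹ ((D.S g 1 _).inv_mem hx) _ hu
    simpa [mul_assoc] using this
  -- translates of `x`
  have hy : ∀ j : ℕ, 1 ≤ j → j ≤ s → ∃ y ∈ N, y ∈ D.S g 0 ((j : ℤ) - 1) ∧ y • D.f g j ≠ D.f g j := by
    intro j hj1 hj
    set d : ℤ := (j : ℤ) - s - 1 with hd
    refine ⟨g ^ d * x * g ^ (-d), N.mul_mem (N.mul_mem (N.zpow_mem hgN d) hxN) (N.zpow_mem hgN _),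
      Data.S_mono (by omega) (by omega) (Data.conj_mem hx d), fun e => hx' ?_⟩
    rw [mul_smul, mul_smul, Data.f_add] at e
    rw [show -d + (j : ℤ) = (s : ℤ) + 1 by omega] at e
    have h3 : D.f g j = g ^ d • D.f g ((s : ℤ) + 1) := by rw [Data.f_add]; congr 1; omega
    rw [h3] at e
    exact MulAction.injective _ e
  have hle : ∀ d : ℕ, d < s → D.S g 0 ((s : ℤ) - d) ≤ N := by
    intro d hd
    induction d with
    | zero =>
      rw [Nat.cast_zero, sub_zero]
      exact Subgroup.le_normalizer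
    | succ d ih =>
      intro h hh
      obtain ⟨y, hyN, hyS, hyf⟩ := hy (s - d) (by omega) (by omega)
      rw [show (((s - d : ℕ) : ℤ)) = (s : ℤ) - d by omega] at hyS hyf
      have hyS' : y ∈ D.S g 0 ((s : ℤ) - (d + 1 : ℕ)) := by
        rwa [show (s : ℤ) - (d + 1 : ℕ) = (s : ℤ) - d - 1 by omega]
      obtain ⟨z', hz', -⟩ := hstep ((s : ℤ) - d - 2)
      rw [show (s : ℤ) - d - 2 + 1 = (s : ℤ) - d - 1 by omega,
        show (s : ℤ) - d - 2 + 2 = (s : ℤ) - d by omega] at hz'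
      have hin : ∀ k ∈ D.S g 0 ((s : ℤ) - (d + 1 : ℕ)), k ∈ D.S g ((s : ℤ) - d - 2) ((s : ℤ) - d - 1) :=
        fun k hk => Data.S_mono (by omega) (by omega) hk
      have hmem : ∀ k ∈ D.S g 0 ((s : ℤ) - (d + 1 : ℕ)), k • D.f g ((s : ℤ) - d) = D.f g ((s : ℤ) - d) →
          k ∈ N := by
        intro k hk hkf
        apply ih (by omega)
        rw [show (s : ℤ) - d = (s : ℤ) - d - 1 + 1 by omega]
        refine (Data.S_succ (by omega)).2 ⟨Data.S_mono le_rfl (by omega) hk, ?_⟩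
        rwa [show (s : ℤ) - d - 1 + 1 = (s : ℤ) - d by omega]
      rcases hz' h (hin h hh) with e | e
      · exact hmem h hh e
      · have e' := (hz' y (hin y hyS')).resolve_left hyf
        have := N.mul_mem hyN (hmem (y⁻¹ * h) ((D.S g 0 _).mul_mem ((D.S g 0 _).inv_mem hyS') hh)
          (by rw [mul_smul, e, ← e', inv_smul_smul]))
        rwa [mul_inv_cancel_left] at this
  have hAN : D.S g 0 0 ≤ N := by
    have hH : D.S g 0 1 ≤ N := by
      have := hle (s - 1) (by omega)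
      rwa [show (s : ℤ) - (s - 1 : ℕ) = 1 by omega] at this
    obtain ⟨y, hyN, hyS, hyf⟩ := hy 1 le_rfl hs1
    rw [Nat.cast_one, sub_self] at hyS
    have hle' : D.S g 0 1 ≤ D.S g 0 0 := Data.S_mono le_rfl (by omega)
    have hlt : D.S g 0 1 < D.S g 0 0 ⊓ N := lt_of_le_of_ne (le_inf hle' hH) fun e => hyf (by
      have : y ∈ D.S g 0 1 := e ▸ ⟨hyS, hyN⟩
      exact Data.mem_S.1 this 1 (by omega) le_rfl)
    have h1 : Nat.card (D.S g 0 1) < Nat.card (D.S g 0 0 ⊓ N : Subgroup G) := by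
      by_contra h
      exact hlt.ne (Subgroup.eq_of_le_of_card_ge hlt.le (not_lt.1 h))
    obtain ⟨u, hu⟩ := Subgroup.card_dvd_of_le hlt.le
    obtain ⟨v, hv⟩ := Subgroup.card_dvd_of_le (inf_le_left : D.S g 0 0 ⊓ N ≤ D.S g 0 0)
    rw [hvert, hu, mul_assoc] at hv
    have huv : u * v = 3 := Nat.eq_of_mul_eq_mul_left (Nat.card_pos (α := D.S g 0 1)) (by linarith)
    have hu2 : 2 ≤ u := by
      by_contra hu2
      have : Nat.card (D.S g 0 1) * u ≤ Nat.card (D.S g 0 1) * 1 := Nat.mul_le_mul_left _ (by omega)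
      omega
    have hu3 : u = 3 := by
      rcases (Nat.dvd_prime Nat.prime_three).1 ⟨v, huv.symm⟩ with h | h
      · omega
      · exact h
    have := Subgroup.eq_of_le_of_card_ge (inf_le_left : D.S g 0 0 ⊓ N ≤ D.S g 0 0) (by
      rw [hvert, hu, hu3]; linarith)
    exact this ▸ inf_le_right
  have hUbot : U = ⊥ := by
    refine D.eq_bot (p := D.f g 0) (g := g) ?_ ?_ hgN ?_
    · rw [← Data.S_self]; exact Data.S_mono le_rfl (by omega)
    · rw [← Data.S_self]; exact hAN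
    · rw [hf0, hga]; exact D.ne.symm
  have hcard : ∀ d : ℕ, d < s → Nat.card (D.S g 0 ((s : ℤ) - d)) = 2 ^ d := by
    intro d hd
    induction d with
    | zero => rw [Nat.cast_zero, sub_zero, ← hU, hUbot, Subgroup.card_bot, pow_zero]
    | succ d ih =>
      have h1 := htwo (s - (d + 1)) (by omega) (by omega)
      rw [show ((s - (d + 1) : ℕ) : ℤ) = (s : ℤ) - (d + 1 : ℕ) by omega,
        show (s : ℤ) - (d + 1 : ℕ) + 1 = (s : ℤ) - d by omega, ih (by omega)] at h1
      rw [h1, pow_succ']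
  have hs2 : 2 ≤ s := by
    by_contra h
    have hcard1 := hcard 0 (by omega)
    rw [Nat.cast_zero, sub_zero, show (s : ℤ) = 1 by omega, hS01, pow_zero] at hcard1
    obtain ⟨k, hk, z, hz, hne⟩ := hsym D.a D.b D.arc_ab
    rw [Subgroup.eq_bot_of_card_eq _ hcard1] at hk
    rw [Subgroup.mem_bot.1 hk, one_smul] at hne
    exact hne rfl
  have hnn : ∃ h ∈ D.S g 0 1, ∃ k ∈ D.S g 0 0, k * h * k⁻¹ ∉ D.S g 0 1 := by
    obtain ⟨h, hh, z, hz, hne⟩ := hsym D.a D.b D.arc_ab
    obtain ⟨g', hg'a, hg'b⟩ := D.exists_conj hz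
    refine ⟨h, hS01 ▸ hh, g'⁻¹, ?_, fun hmem => hne ?_⟩
    · rw [hS00]
      exact inv_smul_eq_iff.2 hg'a.symm
    · rw [hS01, inv_inv] at hmem
      have h1 : (g'⁻¹ * h * g') • D.b = D.b := hmem.2
      rw [mul_smul, mul_smul, inv_smul_eq_iff, hg'b] at h1
      exact h1
  refine ⟨⟨D, g, s - 1, by omega, fun j hj1 hj => ?_, ?_, hnn⟩, rfl⟩
  · have h1 := hcard (s - j) (by omega)
    rw [show (s : ℤ) - (s - j : ℕ) = j by omega] at h1
    rw [h1]
    congr 1
    omega
  · have h1 := hcard (s - 1) (by omega)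
    rw [show (s : ℤ) - (s - 1 : ℕ) = 1 by omega] at h1
    rw [hvert, h1]

end Cfsg.Agent.Perm.CubicSuborbit
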