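import Mathlib
import Cfsg.Agent.Lib.Perm.CubicSuborbit.Path

/-!
# The involutions of a regular path

`E i m` is generated by the involutions `x i, …, x (i + m - 1)`; the commutation between them
bounds the length of a segment.
-/

set_option autoImplicit false
set_option linter.unusedSectionVars false

namespace Cfsg.Agent.Perm.CubicSuborbit

open MulAction

variable {G Ω : Type*} [Group G] [MulAction G Ω] [Finite G] [Fintype Ω] [FaithfulSMul G Ω]

namespace Stage

variable (St : Stage G Ω)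

/-- The subgroup on `m` consecutive involutions. -/
def E (i : ℤ) (m : ℕ) : Subgroup G := St.D.S St.g (i + m - 1) (i + St.n)

theorem eq_one_of_mem {h : G} {i j i' j' : ℤ} (h1 : h ∈ St.D.S St.g i j)
    (h2 : h ∈ St.D.S St.g i' j') (hi : i ≤ i') (ho : i' ≤ j + 1) (hl : i + St.n + 1 ≤ j') : h = 1 := by
  have hmem : h ∈ St.D.S St.g (0 + i) (((St.n + 1 : ℕ) : ℤ) + i) := Data.mem_S.2 fun k hk hk' => by
    push_cast at hk'
    rcases le_or_gt k j with hkj | hkj
    · exact Data.mem_S.1 h1 k (by omega) hkj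
    · exact Data.mem_S.1 h2 k (by omega) (by omega)
  have hc := Data.card_S_shift (D := St.D) (g := St.g) 0 ((St.n + 1 : ℕ) : ℤ) i
  rw [St.card_arc (St.n + 1) (by omega) le_rfl, Nat.sub_self, pow_zero] at hc
  rw [Subgroup.eq_bot_of_card_eq _ hc] at hmem
  exact Subgroup.mem_bot.1 hmem

theorem card_E {i : ℤ} {m : ℕ} (hm : m ≤ St.n) : Nat.card (St.E i m) = 2 ^ m := by
  have hc := Data.card_S_shift (D := St.D) (g := St.g) 0 ((St.n + 1 - m : ℕ) : ℤ) (i + m - 1)
  rw [St.card_arc _ (by omega) (by omega)] at hc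
  rw [E, show i + (m : ℤ) - 1 = 0 + (i + m - 1) by omega,
    show i + (St.n : ℤ) = ((St.n + 1 - m : ℕ) : ℤ) + (i + m - 1) by omega, hc]
  congr 1
  omega

theorem card_vertexE (i : ℤ) : Nat.card (St.E i (St.n + 1)) = 3 * 2 ^ St.n := by
  have hc := Data.card_S_shift (D := St.D) (g := St.g) 0 0 (i + St.n)
  rw [St.card_vertex, zero_add] at hc
  rw [E, show i + ((St.n + 1 : ℕ) : ℤ) - 1 = i + (St.n : ℤ) by omega]
  exact hc

theorem vertexE_eq (i : ℤ) : St.E i (St.n + 1) = stabilizer G (St.D.f St.g (i + St.n)) := by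
  rw [E, ← Data.S_self]
  congr 1
  push_cast
  omega

theorem E_le {i i' : ℤ} {m m' : ℕ} (h1 : i' ≤ i) (h2 : i + m ≤ i' + m') : St.E i m ≤ St.E i' m' :=
  Data.S_mono (by omega) (by omega)

theorem conj_mem_E {h : G} {i : ℤ} {m : ℕ} (hh : h ∈ St.E i m) (d : ℤ) :
    St.g ^ d * h * St.g ^ (-d) ∈ St.E (i + d) m := by
  have := Data.conj_mem hh d
  unfold E
  rw [show i + d + (m : ℤ) - 1 = i + m - 1 + d by omega,
    show i + d + (St.n : ℤ) = i + St.n + d by omega]
  exact this

theorem exists_x₀ : ∃ z, z ∈ St.E 0 1 ∧ z ≠ 1 := by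
  by_contra h
  push Not at h
  have hc := St.card_E (i := 0) St.hn
  rw [(Subgroup.eq_bot_iff_forall _).2 h, Subgroup.card_bot] at hc
  norm_num at hc

/-- The involution fixing the segment from `i` to `i + n`. -/
noncomputable def x (i : ℤ) : G := St.g ^ i * St.exists_x₀.choose * St.g ^ (-i)

theorem x_conj (d i : ℤ) : St.g ^ d * St.x i * St.g ^ (-d) = St.x (d + i) := by
  simp only [x, ← mul_assoc, ← zpow_add]
  rw [mul_assoc, ← zpow_add, show -i + -d = -(d + i) by omega]

theorem x_mem_one (i : ℤ) : St.x i ∈ St.E i 1 := by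
  simpa [x] using St.conj_mem_E St.exists_x₀.choose_spec.1 i

theorem x_mem {i k : ℤ} {m : ℕ} (h1 : i ≤ k) (h2 : k < i + m) : St.x k ∈ St.E i m :=
  St.E_le h1 (by omega) (St.x_mem_one k)

theorem x_ne_one (i : ℤ) : St.x i ≠ 1 := fun h => St.exists_x₀.choose_spec.2 (by
  have h' := congrArg (fun z => St.g ^ (-i) * z * St.g ^ i) h
  simpa [x, mul_assoc] using h')

theorem x_mul_self (i : ℤ) : St.x i * St.x i = 1 := by
  have h := pow_card_eq_one' (x := (⟨St.x i, St.x_mem_one i⟩ : St.E i 1))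
  rw [St.card_E St.hn, pow_one, pow_two] at h
  exact congrArg Subtype.val h

theorem x_inv (i : ℤ) : (St.x i)⁻¹ = St.x i := inv_eq_of_mul_eq_one_right (St.x_mul_self i)

theorem x_cancel (i : ℤ) (z : G) : St.x i * (St.x i * z) = z := by
  rw [← mul_assoc, St.x_mul_self, one_mul]

theorem x_notMem_left {i : ℤ} {m : ℕ} (hm : m ≤ St.n) : St.x i ∉ St.E (i + 1) m := fun h =>
  St.x_ne_one i (St.eq_one_of_mem (St.x_mem_one i) h (by omega) (by omega) (by omega))

theorem x_notMem_right {i : ℤ} {m : ℕ} (hm : m ≤ St.n) : St.x (i + m) ∉ St.E i m := fun h =>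
  St.x_ne_one (i + m) (St.eq_one_of_mem h (St.x_mem_one (i + m)) (by omega) (by omega) (by omega))

theorem E_zero (i : ℤ) : St.E i 0 = ⊥ :=
  Subgroup.eq_bot_of_card_eq _ (St.card_E (Nat.zero_le _))

theorem card_half (i j : ℤ) {m : ℕ} (hm : m + 1 ≤ St.n) :
    Nat.card (St.E i (m + 1)) = 2 * Nat.card (St.E j m) := by
  rw [St.card_E hm, St.card_E (by omega), pow_succ']

theorem decomp_left {i : ℤ} {m : ℕ} (hm : m + 1 ≤ St.n) {w : G} (hw : w ∈ St.E i (m + 1)) :
    w ∈ St.E (i + 1) m ∨ St.x i * w ∈ St.E (i + 1) m := by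
  by_cases h : w ∈ St.E (i + 1) m
  · exact Or.inl h
  · exact Or.inr (mul_mem_of_half (St.E_le (by omega) (by omega)) (St.card_half i (i + 1) hm)
      (St.x_mem le_rfl (by omega)) (St.x_notMem_left (by omega)) hw h)

theorem decomp_right {i : ℤ} {m : ℕ} (hm : m + 1 ≤ St.n) {w : G} (hw : w ∈ St.E i (m + 1)) :
    w ∈ St.E i m ∨ St.x (i + m) * w ∈ St.E i m := by
  by_cases h : w ∈ St.E i m
  · exact Or.inl h
  · exact Or.inr (mul_mem_of_half (St.E_le le_rfl (by omega)) (St.card_half i i hm)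
      (St.x_mem (by omega) (by omega)) (St.x_notMem_right (by omega)) hw h)

theorem mem_inter {i : ℤ} {m : ℕ} (hm : m ≤ St.n) {w : G} (h1 : w ∈ St.E i (m + 1))
    (h2 : w ∈ St.E (i + 1) (m + 1)) : w ∈ St.E (i + 1) m :=
  Data.mem_S.2 fun k hk hk' => by
    rcases le_or_gt k (i + St.n) with h | h
    · exact Data.mem_S.1 h1 k (by omega) h
    · exact Data.mem_S.1 h2 k (by omega) (by omega)

theorem eq_one_or_x {i : ℤ} {w : G} (hw : w ∈ St.E i 1) : w = 1 ∨ w = St.x i := by
  rcases St.decomp_right (m := 0) St.hn hw with h | h <;> rw [St.E_zero, Subgroup.mem_bot] at h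
  · exact Or.inl h
  · right
    rw [Nat.cast_zero, add_zero] at h
    rw [← St.x_inv i]
    exact (eq_inv_of_mul_eq_one_right h)

theorem conj_mem_left {i : ℤ} {m : ℕ} (hm : m + 1 ≤ St.n) {u : G} (hu : u ∈ St.E (i + 1) m) :
    St.x i * u * St.x i ∈ St.E (i + 1) m := by
  have hle : St.E (i + 1) m ≤ St.E i (m + 1) := St.E_le (by omega) (by omega)
  have hx : St.x i ∈ St.E i (m + 1) := St.x_mem le_rfl (by omega)
  have hn : St.x i ∉ St.E (i + 1) m := St.x_notMem_left (by omega)
  have h1 : St.x i * u ∈ St.E i (m + 1) := mul_mem hx (hle hu)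
  have h2 : St.x i * u ∉ St.E (i + 1) m := fun h => hn ((mul_mem_cancel_right hu).1 h)
  exact mul_mem_of_half hle (St.card_half i (i + 1) hm) h1 h2 hx hn

theorem conj_mem_right {i : ℤ} {m : ℕ} (hm : m + 1 ≤ St.n) {u : G} (hu : u ∈ St.E i m) :
    St.x (i + m) * u * St.x (i + m) ∈ St.E i m := by
  have hle : St.E i m ≤ St.E i (m + 1) := St.E_le le_rfl (by omega)
  have hx : St.x (i + m) ∈ St.E i (m + 1) := St.x_mem (by omega) (by omega)
  have hn : St.x (i + m) ∉ St.E i m := St.x_notMem_right (by omega)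
  have h1 : St.x (i + m) * u ∈ St.E i (m + 1) := mul_mem hx (hle hu)
  have h2 : St.x (i + m) * u ∉ St.E i m := fun h => hn ((mul_mem_cancel_right hu).1 h)
  exact mul_mem_of_half hle (St.card_half i i hm) h1 h2 hx hn

/-- The commutator of the ends of an interval lies inside. -/
theorem comm_mem {i : ℤ} {m : ℕ} (hm : m + 2 ≤ St.n) :
    St.x i * St.x (i + (m + 1 : ℕ)) * St.x i * St.x (i + (m + 1 : ℕ)) ∈ St.E (i + 1) m := by
  refine St.mem_inter (by omega) ?_ ?_
  · have h := St.conj_mem_right (i := i) (m := m + 1) (by omega)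
      (St.x_mem (k := i) (i := i) (m := m + 1) le_rfl (by omega))
    have h' := (St.E i (m + 1)).mul_mem (St.x_mem (k := i) le_rfl (by omega)) h
    simpa [mul_assoc] using h'
  · have h := St.conj_mem_left (i := i) (m := m + 1) (by omega)
      (St.x_mem (k := i + (m + 1 : ℕ)) (i := i + 1) (m := m + 1) (by omega) (by omega))
    have h' := (St.E (i + 1) (m + 1)).mul_mem h
      (St.x_mem (k := i + (m + 1 : ℕ)) (i := i + 1) (by omega) (by omega))
    simpa [mul_assoc] using h'

theorem E_le_of_gen {P : Subgroup G} : ∀ (m : ℕ) (i : ℤ), m ≤ St.n →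
    (∀ k, i ≤ k → k < i + m → St.x k ∈ P) → St.E i m ≤ P := by
  intro m
  induction m with
  | zero => intro i _ _; rw [St.E_zero]; exact bot_le
  | succ m ih =>
    intro i hm hgen w hw
    have hsub := ih (i + 1) (by omega) fun k h1 h2 => hgen k (by omega) (by omega)
    rcases St.decomp_left hm hw with h | h
    · exact hsub h
    · have := P.mul_mem (hgen i le_rfl (by omega)) (hsub h)
      rwa [St.x_cancel] at this

theorem vertex_le_of_gen {P : Subgroup G} {i : ℤ}
    (hgen : ∀ k, i ≤ k → k ≤ i + St.n → St.x k ∈ P) : St.E i (St.n + 1) ≤ P := by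
  have h0 : St.E i St.n ≤ P := St.E_le_of_gen St.n i le_rfl fun k h1 h2 => hgen k h1 (by omega)
  have hlt : St.E i St.n < St.E i (St.n + 1) ⊓ P := lt_of_le_of_ne
    (le_inf (St.E_le le_rfl (by omega)) h0) fun e => St.x_notMem_right (i := i) le_rfl (by
      rw [e]; exact ⟨St.x_mem (by omega) (by omega), hgen _ (by omega) le_rfl⟩)
  have h1 : Nat.card (St.E i St.n) < Nat.card (St.E i (St.n + 1) ⊓ P : Subgroup G) := by
    by_contra h
    exact hlt.ne (Subgroup.eq_of_le_of_card_ge hlt.le (not_lt.1 h))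
  obtain ⟨u, hu⟩ := Subgroup.card_dvd_of_le hlt.le
  obtain ⟨v, hv⟩ := Subgroup.card_dvd_of_le (inf_le_left : St.E i (St.n + 1) ⊓ P ≤ St.E i (St.n + 1))
  rw [St.card_vertexE, hu, St.card_E le_rfl, mul_assoc] at hv
  rw [hu, St.card_E le_rfl] at h1
  have huv : u * v = 3 := Nat.eq_of_mul_eq_mul_left (pow_pos two_pos St.n) (by linarith)
  rcases (Nat.dvd_prime Nat.prime_three).1 ⟨v, huv.symm⟩ with h | h
  · subst h; simp at h1
  · have := Subgroup.eq_of_le_of_card_ge (inf_le_left : St.E i (St.n + 1) ⊓ P ≤ St.E i (St.n + 1))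
      (by rw [St.card_vertexE, hu, St.card_E le_rfl, h]; linarith)
    exact this ▸ inf_le_right

theorem commute_of_gen {z : G} {i : ℤ} {m : ℕ} (hm : m ≤ St.n)
    (h : ∀ k, i ≤ k → k < i + m → Commute z (St.x k)) {u : G} (hu : u ∈ St.E i m) : Commute z u :=
  (Subgroup.mem_centralizer_iff.1 (St.E_le_of_gen (P := Subgroup.centralizer {z}) m i hm
    (fun k h1 h2 => Subgroup.mem_centralizer_iff.2 fun y hy => by
      rw [Set.mem_singleton_iff.1 hy]; exact h k h1 h2) hu)) z rfl

/-- The involutions at distance `d` commute. -/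
def Gap (d : ℕ) : Prop := Commute (St.x 0) (St.x d)

theorem commute_shift {i j : ℤ} (d : ℤ) (h : Commute (St.x i) (St.x j)) :
    Commute (St.x (d + i)) (St.x (d + j)) := by
  rw [← St.x_conj d i, ← St.x_conj d j, zpow_neg]
  exact h.map (MulAut.conj (St.g ^ d)).toMonoidHom

theorem gap_iff {i : ℤ} {d : ℕ} : Commute (St.x i) (St.x (i + d)) ↔ St.Gap d := by
  refine ⟨fun h => ?_, fun h => ?_⟩
  · have := St.commute_shift (-i) h
    rwa [neg_add_cancel, neg_add_cancel_left] at this
  · have := St.commute_shift i h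
    rwa [add_zero] at this

theorem commute_of_lt {l : ℕ} (hl : ∀ d < l, St.Gap d) {k k' : ℤ} (h1 : k' < k + l) (h2 : k < k' + l) :
    Commute (St.x k) (St.x k') := by
  rcases le_total k k' with h | h
  · obtain ⟨d, rfl⟩ : ∃ d : ℕ, k' = k + d := ⟨(k' - k).toNat, by omega⟩
    exact St.gap_iff.2 (hl d (by omega))
  · obtain ⟨d, rfl⟩ : ∃ d : ℕ, k = k' + d := ⟨(k - k').toNat, by omega⟩
    exact (St.gap_iff.2 (hl d (by omega))).symm

theorem comm_E {l : ℕ} (hl : ∀ d < l, St.Gap d) {i : ℤ} {m : ℕ} (hm : m ≤ St.n) (hml : m ≤ l)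
    {u v : G} (hu : u ∈ St.E i m) (hv : v ∈ St.E i m) : Commute u v :=
  St.commute_of_gen hm (fun k h1 h2 => (St.commute_of_gen (z := St.x k) hm
    (fun k' h3 h4 => St.commute_of_lt hl (by omega) (by omega)) hu).symm) hv

theorem sq_E {l : ℕ} (hl : ∀ d < l, St.Gap d) : ∀ {m : ℕ} (i : ℤ), m ≤ St.n → m ≤ l →
    ∀ {u : G}, u ∈ St.E i m → u * u = 1 := by
  intro m
  induction m with
  | zero => intro i _ _ u hu; rw [St.E_zero, Subgroup.mem_bot] at hu; simp [hu]
  | succ m ih =>
    intro i hm hml u hu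
    rcases St.decomp_left hm hu with h | h
    · exact ih (i + 1) (by omega) (by omega) h
    · have h1 := ih (i + 1) (by omega) (by omega) h
      have hc := St.comm_E hl hm hml (St.x_mem (k := i) (i := i) le_rfl (by omega)) hu
      rw [mul_assoc, ← mul_assoc u, ← hc.eq, ← mul_assoc, ← mul_assoc, St.x_mul_self, one_mul] at h1
      exact h1

theorem gap_one (hn : 2 ≤ St.n) : St.Gap 1 := by
  haveI : Fact (Nat.Prime 2) := ⟨Nat.prime_two⟩
  have hc : Nat.card (St.E 0 2) = 2 ^ 2 := St.card_E hn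
  letI : CommGroup (St.E 0 2) := IsPGroup.commGroupOfCardEqPrimeSq hc
  exact congrArg Subtype.val (mul_comm (⟨St.x 0, St.x_mem le_rfl (by norm_num)⟩ : St.E 0 2)
    ⟨St.x ((1 : ℕ) : ℤ), St.x_mem (by norm_num) (by norm_num)⟩)

theorem exists_not_gap : ∃ d, d ≤ St.n ∧ ¬ St.Gap d := by
  by_contra hno
  push Not at hno
  have hl : ∀ d < St.n + 1, St.Gap d := fun d hd => hno d (by omega)
  have hgen : St.E (-St.n : ℤ) (St.n + 1) ≤ Subgroup.centralizer
      ((St.E (-St.n : ℤ) (St.n + 1) : Subgroup G) : Set G) := by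
    refine St.vertex_le_of_gen fun k h1 h2 => Subgroup.mem_centralizer_iff.2 fun u hu => ?_
    have hle : St.E (-St.n : ℤ) (St.n + 1) ≤ Subgroup.centralizer {St.x k} :=
      St.vertex_le_of_gen fun k' h3 h4 => Subgroup.mem_centralizer_iff.2 fun y hy => by
        rw [Set.mem_singleton_iff.1 hy]
        exact St.commute_of_lt hl (by omega) (by omega)
    exact (Subgroup.mem_centralizer_iff.1 (hle hu) _ rfl).symm
  obtain ⟨h, hh, k, hk, hne⟩ := St.nonnormal
  have h00 : St.E (-St.n : ℤ) (St.n + 1) = St.D.S St.g 0 0 := by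
    rw [St.vertexE_eq, Data.S_self, neg_add_cancel]
  rw [h00] at hgen
  have hh' : h ∈ St.D.S St.g 0 0 := Data.S_mono le_rfl (by omega) hh
  apply hne
  rw [(Subgroup.mem_centralizer_iff.1 (hgen hh') k hk), mul_inv_cancel_right]
  exact hh

theorem commute_of_invol {a b : G} (ha : a * a = 1) (hb : b * b = 1) (h : a * b * a * b = 1) :
    Commute a b := by
  have h1 : a * b * (a * b) = 1 := by rw [← mul_assoc]; exact h
  have h2 : (a * b)⁻¹ = a * b := inv_eq_of_mul_eq_one_right h1
  rwa [mul_inv_rev, inv_eq_of_mul_eq_one_right ha, inv_eq_of_mul_eq_one_right hb, eq_comm] at h2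

/-- The first distance at which the involutions do not commute. -/
theorem exists_lam : ∃ l : ℕ, 1 ≤ l ∧ l ≤ St.n ∧ (∀ d < l, St.Gap d) ∧ ¬ St.Gap l ∧
    2 * l ≤ St.n + 2 := by
  classical
  obtain ⟨d₀, hd₀, hgap⟩ := St.exists_not_gap
  have hex : ∃ d, ¬ St.Gap d := ⟨d₀, hgap⟩
  have hl : ∀ d < Nat.find hex, St.Gap d := fun d hd => not_not.1 (Nat.find_min hex hd)
  have h0 : St.Gap 0 := Commute.refl _
  refine ⟨Nat.find hex, ?_, (Nat.find_min' hex hgap).trans hd₀, hl, Nat.find_spec hex, ?_⟩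
  · by_contra h
    have h' : Nat.find hex = 0 := by omega
    exact Nat.find_spec hex (h'.symm ▸ h0)
  · -- otherwise an involution centralises two adjacent vertex stabilisers
    by_contra h
    set l := Nat.find hex
    set c : ℤ := (l : ℤ) - 1 with hc
    have hcent : ∀ i : ℤ, 0 ≤ i → i ≤ 1 → St.E i (St.n + 1) ≤ Subgroup.centralizer {St.x c} :=
      fun i h1 h2 => St.vertex_le_of_gen fun k h3 h4 => Subgroup.mem_centralizer_iff.2 fun y hy => by
        rw [Set.mem_singleton_iff.1 hy]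
        exact St.commute_of_lt hl (by omega) (by omega)
    have hln : l ≤ St.n := (Nat.find_min' hex hgap).trans hd₀
    have hnorm : ∀ {p : Ω}, stabilizer G p ≤ Subgroup.centralizer {St.x c} →
        stabilizer G p ≤ Subgroup.normalizer ((Subgroup.zpowers (St.x c)) : Set G) := by
      intro p hp k hk
      have hck : Commute k (St.x c) := (Subgroup.mem_centralizer_iff.1 (hp hk) _ rfl).symm
      rw [Subgroup.mem_normalizer_iff]
      intro z
      constructor
      · rintro hz
        obtain ⟨j, rfl⟩ := Subgroup.mem_zpowers_iff.1 hz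
        rwa [(hck.zpow_right j).eq, mul_inv_cancel_right]
      · intro hz
        obtain ⟨j, hj⟩ := Subgroup.mem_zpowers_iff.1 hz
        refine Subgroup.mem_zpowers_iff.2 ⟨j, ?_⟩
        have h' := congrArg (fun y => k⁻¹ * y * k) hj
        simp only [mul_assoc, inv_mul_cancel_left, inv_mul_cancel, mul_one] at h'
        rw [← h', ← (hck.zpow_right j).eq, inv_mul_cancel_left]
    have h1 := hcent 0 le_rfl zero_le_one
    have h2 := hcent 1 zero_le_one le_rfl
    rw [St.vertexE_eq] at h1 h2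
    have hne : St.D.f St.g (0 + St.n) ≠ St.D.f St.g (1 + St.n) := fun e => by
      have he : St.D.S St.g (0 + St.n) (0 + St.n) ≤ St.D.S St.g (0 + St.n) (1 + St.n) :=
        fun k hk => Data.mem_S.2 fun j hj hj' => by
          rcases (show j = 0 + St.n ∨ j = 1 + St.n by omega) with rfl | rfl
          · exact Data.mem_S.1 hk _ le_rfl le_rfl
          · rw [← e]; exact Data.mem_S.1 hk _ le_rfl le_rfl
      have hc := Subgroup.card_le_of_le he
      rw [Data.card_S_shift, Data.card_S_shift, St.card_vertex] at hc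
      have := St.card_arc 1 le_rfl (by omega)
      rw [Nat.cast_one] at this
      rw [this, Nat.add_sub_cancel] at hc
      have := Nat.two_pow_pos St.n
      omega
    have hbot := St.D.eq_bot_of_two (R := Subgroup.zpowers (St.x c)) hne
      (Subgroup.zpowers_le.2 (by
        rw [← Data.S_self]; exact Data.S_mono (by omega) (by omega) (St.x_mem_one c)))
      (hnorm h1) (hnorm h2)
    exact St.x_ne_one c (Subgroup.zpowers_eq_bot.1 hbot)

end Stage

end Cfsg.Agent.Perm.CubicSuborbit
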