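import Mathlib
import Cfsg.Agent.Lib.Perm.CubicSuborbit.Interval

/-!
# Segments have at most five edges
-/

set_option autoImplicit false
set_option linter.unusedSectionVars false

namespace Cfsg.Agent.Perm.CubicSuborbit.Stage

open MulAction

variable {G Ω : Type*} [Group G] [MulAction G Ω] [Finite G] [Fintype Ω] [FaithfulSMul G Ω]
variable (St : Stage G Ω)

/-- The commutator of the first two involutions that do not commute. -/
noncomputable def w (l : ℕ) : G := St.x 0 * St.x l * St.x 0 * St.x l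

theorem w_ne_one {l : ℕ} (h : ¬ St.Gap l) : St.w l ≠ 1 := fun e =>
  h (commute_of_invol (St.x_mul_self 0) (St.x_mul_self l) e)

theorem w_mem {l : ℕ} (h1 : 1 ≤ l) (hl : l + 1 ≤ St.n) : St.w l ∈ St.E 1 (l - 1) := by
  obtain ⟨m, rfl⟩ := Nat.exists_eq_add_of_le' h1
  have := St.comm_mem (i := 0) (m := m) (by omega)
  rwa [zero_add, zero_add] at this

/-- The support of `w` reaches far to the right of its left end. -/
theorem exists_mu {l : ℕ} (h1 : 1 ≤ l) (hl : l + 1 ≤ St.n) (hgap : ∀ d < l, St.Gap d)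
    (hl' : ¬ St.Gap l) :
    ∃ μ : ℕ, St.n ≤ l + μ ∧ 1 ≤ μ ∧ μ + 1 ≤ l ∧ St.w l ∈ St.E (μ : ℤ) (l - μ) := by
  classical
  let P : ℕ → Prop := fun j => 1 ≤ j ∧ St.w l ∈ St.E (j : ℤ) (l - j)
  have hP1 : P 1 := ⟨le_rfl, by simpa using St.w_mem h1 hl⟩
  set μ := Nat.findGreatest P l with hμdef
  obtain ⟨hμ1, hμm⟩ : P μ := Nat.findGreatest_spec (P := P) h1 hP1
  have hμl : μ + 1 ≤ l := by
    have := Nat.findGreatest_le (P := P) l
    by_contra hh
    have : μ = l := by omega
    rw [this, Nat.sub_self, St.E_zero, Subgroup.mem_bot] at hμm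
    exact St.w_ne_one hl' hμm
  refine ⟨μ, ?_, hμ1, hμl, hμm⟩
  by_contra hlt
  have hnext : St.w l ∉ St.E ((μ + 1 : ℕ) : ℤ) (l - (μ + 1)) := fun h =>
    Nat.findGreatest_is_greatest (P := P) (n := l) (k := μ + 1) (by omega) hμl ⟨by omega, h⟩
  push_cast at hnext
  rw [show l - μ = l - (μ + 1) + 1 by omega] at hμm
  have hr := (St.decomp_left (by omega) hμm).resolve_left hnext
  set r := St.x (μ : ℤ) * St.w l with hrdef
  set z := St.x ((l + μ : ℕ) : ℤ) with hz
  have hzr : Commute z r := St.commute_of_gen (by omega)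
    (fun k h1 h2 => St.commute_of_lt hgap (by omega) (by omega)) hr
  set y := St.x 0 * z * St.x 0 * z with hy
  have hym : y ∈ St.E 1 (l + μ - 1) := by
    have := St.comm_mem (i := 0) (m := l + μ - 1) (by omega)
    rw [zero_add, zero_add, show l + μ - 1 + 1 = l + μ by omega] at this
    exact this
  have hxy : Commute (St.x (l : ℤ)) y := St.commute_of_gen (by omega)
    (fun k h1 h2 => St.commute_of_lt hgap (by omega) (by omega)) hym
  have hzl : Commute z (St.x (l : ℤ)) := St.commute_of_lt hgap (by omega) (by omega)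
  have hzz : z * z = 1 := St.x_mul_self _
  have hconj : z * St.x 0 * z = St.x 0 * y := by
    rw [hy, ← mul_assoc, ← mul_assoc, ← mul_assoc, St.x_mul_self, one_mul]
  have hxy0 : y * St.x 0 * y = St.x 0 := by
    have e : (St.x 0 * y) * (St.x 0 * y) = 1 := by
      rw [← hconj]
      calc z * St.x 0 * z * (z * St.x 0 * z) = z * St.x 0 * (z * z) * St.x 0 * z := by group
        _ = 1 := by rw [hzz, mul_one, mul_assoc z, St.x_mul_self, mul_one, hzz]
    calc y * St.x 0 * y = St.x 0 * ((St.x 0 * y) * (St.x 0 * y)) := by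
          simp only [mul_assoc, St.x_cancel]
      _ = St.x 0 := by rw [e, mul_one]
  have hzw : Commute z (St.w l) := by
    have e : z * St.w l * z = St.w l := by
      calc z * St.w l * z
          = (z * St.x 0 * z) * (z * St.x (l : ℤ) * z) * (z * St.x 0 * z) * (z * St.x (l : ℤ) * z) := by
            have hzi : ∀ u : G, z * (z * u) = u := fun u => by rw [← mul_assoc, hzz, one_mul]
            simp only [Stage.w, mul_assoc, hzi]
        _ = (St.x 0 * y) * St.x (l : ℤ) * (St.x 0 * y) * St.x (l : ℤ) := by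
            rw [hconj, hzl.eq, mul_assoc (St.x (l : ℤ)), hzz, mul_one]
        _ = St.x 0 * St.x (l : ℤ) * (y * St.x 0 * y) * St.x (l : ℤ) := by
            rw [mul_assoc (St.x 0) y, ← hxy.eq]
            simp only [mul_assoc]
        _ = St.w l := by rw [hxy0]; rfl
    calc z * St.w l = z * St.w l * z * z := by rw [mul_assoc _ z z, hzz, mul_one]
      _ = St.w l * z := by rw [e]
  have hzμ : Commute z (St.x (μ : ℤ)) := by
    have h := hzr.mul_right hzw.inv_right
    rwa [hrdef, mul_inv_cancel_right] at h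
  rw [hz, show ((l + μ : ℕ) : ℤ) = (μ : ℤ) + l by push_cast; ring] at hzμ
  exact hl' (St.gap_iff.1 hzμ.symm)

/-- The support of `w` reaches far to the left of its right end. -/
theorem exists_nu {l : ℕ} (h1 : 1 ≤ l) (hl : l + 1 ≤ St.n) (hgap : ∀ d < l, St.Gap d)
    (hl' : ¬ St.Gap l) :
    ∃ ν : ℕ, St.n + ν ≤ 2 * l ∧ 1 ≤ ν ∧ ν + 1 ≤ l ∧ St.w l ∈ St.E 1 ν := by
  classical
  have hex : ∃ j, St.w l ∈ St.E 1 j := ⟨l - 1, St.w_mem h1 hl⟩
  set ν := Nat.find hex
  have hνm : St.w l ∈ St.E 1 ν := Nat.find_spec hex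
  have hν1 : 1 ≤ ν := by
    by_contra hh
    have : ν = 0 := by omega
    rw [this, St.E_zero, Subgroup.mem_bot] at hνm
    exact St.w_ne_one hl' hνm
  have hνl : ν ≤ l - 1 := Nat.find_min' hex (St.w_mem h1 hl)
  refine ⟨ν, ?_, hν1, by omega, hνm⟩
  by_contra hlt
  have hnext : St.w l ∉ St.E 1 (ν - 1) := Nat.find_min hex (show ν - 1 < ν by omega)
  rw [show ν = ν - 1 + 1 by omega] at hνm
  have hr := (St.decomp_right (by omega) hνm).resolve_left hnext
  rw [show (1 : ℤ) + (ν - 1 : ℕ) = ν by omega] at hr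
  set r := St.x (ν : ℤ) * St.w l with hrdef
  set z := St.x ((ν : ℤ) - l) with hz
  have hzr : Commute z r := St.commute_of_gen (by omega)
    (fun k h1 h2 => St.commute_of_lt hgap (by omega) (by omega)) hr
  set y := St.x (l : ℤ) * (z * St.x (l : ℤ) * z) with hy
  have hym : y ∈ St.E ((ν : ℤ) - l + 1) (2 * l - ν - 1) := by
    have := St.comm_mem (i := (ν : ℤ) - l) (m := 2 * l - ν - 1) (by omega)
    rw [show (ν : ℤ) - l + (2 * l - ν - 1 + 1 : ℕ) = l by omega] at this
    have h2 := (St.E _ _).inv_mem this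
    simpa [hy, hz, mul_inv_rev, St.x_inv, mul_assoc] using h2
  have hxy : Commute (St.x 0) y := St.commute_of_gen (by omega)
    (fun k h1 h2 => St.commute_of_lt hgap (by omega) (by omega)) hym
  have hz0 : Commute z (St.x 0) := St.commute_of_lt hgap (by omega) (by omega)
  have hzz : z * z = 1 := St.x_mul_self _
  have hconj : z * St.x (l : ℤ) * z = St.x (l : ℤ) * y := by rw [hy, St.x_cancel]
  have hxy0 : y * St.x (l : ℤ) * y = St.x (l : ℤ) := by
    have e : (St.x (l : ℤ) * y) * (St.x (l : ℤ) * y) = 1 := by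
      rw [← hconj]
      calc z * St.x (l : ℤ) * z * (z * St.x (l : ℤ) * z)
          = z * St.x (l : ℤ) * (z * z) * St.x (l : ℤ) * z := by group
        _ = 1 := by rw [hzz, mul_one, mul_assoc z, St.x_mul_self, mul_one, hzz]
    calc y * St.x (l : ℤ) * y = St.x (l : ℤ) * ((St.x (l : ℤ) * y) * (St.x (l : ℤ) * y)) := by
          simp only [mul_assoc, St.x_cancel]
      _ = St.x (l : ℤ) := by rw [e, mul_one]
  have hzw : Commute z (St.w l) := by
    have e : z * St.w l * z = St.w l := by
      calc z * St.w l * z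
          = (z * St.x 0 * z) * (z * St.x (l : ℤ) * z) * (z * St.x 0 * z) * (z * St.x (l : ℤ) * z) := by
            have hzi : ∀ u : G, z * (z * u) = u := fun u => by rw [← mul_assoc, hzz, one_mul]
            simp only [Stage.w, mul_assoc, hzi]
        _ = St.x 0 * (St.x (l : ℤ) * y) * St.x 0 * (St.x (l : ℤ) * y) := by
            rw [hconj, hz0.eq, mul_assoc (St.x 0), hzz, mul_one]
        _ = St.x 0 * St.x (l : ℤ) * St.x 0 * (y * St.x (l : ℤ) * y) := by
            have hc := hxy.eq
            simp only [mul_assoc]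
            rw [← mul_assoc y (St.x 0), ← hc]
            simp only [mul_assoc]
        _ = St.w l := by rw [hxy0]; rfl
    calc z * St.w l = z * St.w l * z * z := by rw [mul_assoc _ z z, hzz, mul_one]
      _ = St.w l * z := by rw [e]
  have hzν : Commute z (St.x (ν : ℤ)) := by
    have h := hzr.mul_right hzw.inv_right
    rwa [hrdef, mul_inv_cancel_right] at h
  rw [hz, show (ν : ℤ) = (ν : ℤ) - l + (l : ℕ) by ring] at hzν
  simp only [sub_add_cancel] at hzν
  have hzν' : Commute (St.x ((ν : ℤ) - l)) (St.x (((ν : ℤ) - l) + (l : ℕ))) := by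
    rwa [sub_add_cancel]
  exact hl' (St.gap_iff.1 hzν')

theorem three_bound {l : ℕ} (h1 : 1 ≤ l) (hl : l + 1 ≤ St.n) (hgap : ∀ d < l, St.Gap d)
    (hl' : ¬ St.Gap l) : 2 * St.n ≤ 3 * l := by
  obtain ⟨μ, hμ, hμ1, hμl, hwμ⟩ := St.exists_mu h1 hl hgap hl'
  obtain ⟨ν, hν, hν1, hνl, hwν⟩ := St.exists_nu h1 hl hgap hl'
  by_contra h
  exact St.w_ne_one hl' (St.eq_one_of_mem (St.E_le (i' := 1) (m' := μ - 1) le_rfl (by omega) hwν) hwμ
    (by omega) (by omega) (by omega))

/-- Six involutions are impossible. -/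
theorem n_ne_six {l : ℕ} (hl : l = 4) (hn : St.n = 6) (hgap : ∀ d < l, St.Gap d)
    (hl' : ¬ St.Gap l) : False := by
  subst hl
  obtain ⟨μ, hμ, hμ1, hμl, hwμ⟩ := St.exists_mu (l := 4) (by norm_num) (by omega) hgap hl'
  obtain ⟨ν, hν, hν1, hνl, hwν⟩ := St.exists_nu (l := 4) (by norm_num) (by omega) hgap hl'
  have hw1 : St.w 4 ∈ St.E 2 1 := by
    have ha : St.w 4 ∈ St.E 1 2 := St.E_le le_rfl (by omega) hwν
    have hb : St.w 4 ∈ St.E (1 + 1) 2 := St.E_le (by omega) (by omega) hwμ
    exact St.mem_inter (i := 1) (m := 1) (by omega) ha hb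
  have hw : St.w 4 = St.x 2 := (St.eq_one_or_x hw1).resolve_left (St.w_ne_one hl')
  have hc4 : St.x 0 * St.x 4 * St.x 0 = St.x 2 * St.x 4 := by
    rw [← hw, Stage.w, Nat.cast_ofNat, mul_assoc _ (St.x 4) (St.x 4), St.x_mul_self, mul_one]
  have shiftc : ∀ i : ℤ, St.x i * St.x (i + 4) * St.x i = St.x (i + 2) * St.x (i + 4) := by
    intro i
    have h := congrArg (fun u => St.g ^ i * u * St.g ^ (-i)) hc4
    have e : ∀ j, St.g ^ i * St.x j = St.x (i + j) * St.g ^ i := fun j => by
      rw [← St.x_conj i j, mul_assoc, ← zpow_add, neg_add_cancel, zpow_zero, mul_one]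
    simp only [mul_assoc] at h
    rw [← mul_assoc, e, mul_assoc, ← mul_assoc (St.g ^ i) (St.x 4), e, mul_assoc,
      ← mul_assoc (St.g ^ i) (St.x 0), e, mul_assoc, ← zpow_add, add_neg_cancel, zpow_zero, mul_one,
      ← mul_assoc (St.g ^ i) (St.x 2), e, mul_assoc, ← mul_assoc (St.g ^ i) (St.x 4), e, mul_assoc,
      ← zpow_add, add_neg_cancel, zpow_zero, mul_one, add_zero] at h
    simpa [mul_assoc] using h
  have hcomm : ∀ {u v : G}, u ∈ St.E 1 4 → v ∈ St.E 1 4 → u * v = v * u := fun hu hv =>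
    (St.comm_E hgap (by omega) le_rfl hu hv).eq
  set y := St.x 0 * St.x 5 * St.x 0 * St.x 5 with hy
  have hym : y ∈ St.E 1 4 := by
    have := St.comm_mem (i := 0) (m := 4) (by omega)
    simpa [hy] using this
  have hyy : y * y = 1 := St.sq_E hgap 1 (by omega) le_rfl hym
  have hyi : y⁻¹ = y := inv_eq_of_mul_eq_one_right hyy
  have hy3 : y ∈ St.E 1 3 := by
    by_contra hnot
    have hr := (St.decomp_right (i := 1) (m := 3) (by omega) hym).resolve_left hnot
    norm_num at hr
    set r := St.x 4 * y with hrdef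
    have h0r : Commute (St.x 0) r := St.commute_of_gen (by omega)
      (fun k h1 h2 => St.commute_of_lt hgap (by omega) (by omega)) hr
    have e1 : St.x 0 * y * St.x 0 = y := by
      conv_rhs => rw [← hyi]
      rw [hy]
      simp only [mul_inv_rev, St.x_inv, mul_assoc, St.x_cancel]
    have e2 : St.x 0 * y * St.x 0 = St.x 2 * y := by
      calc St.x 0 * y * St.x 0 = (St.x 0 * St.x 4 * St.x 0) * (St.x 0 * r * St.x 0) := by
            simp only [hrdef, mul_assoc, St.x_cancel]
        _ = (St.x 2 * St.x 4) * r := by rw [hc4, h0r.eq, mul_assoc r, St.x_mul_self, mul_one]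
        _ = St.x 2 * y := by simp only [hrdef, mul_assoc, St.x_cancel]
    exact St.x_ne_one 2 (mul_eq_right.1 (e2.symm.trans e1))
  have hy4 : y ∈ St.E 2 3 := by
    by_contra hnot
    have hr := (St.decomp_left (i := 1) (m := 3) (by omega) hym).resolve_left (by norm_num; exact hnot)
    norm_num at hr
    set r := St.x 1 * y with hrdef
    have h5r : Commute (St.x 5) r := St.commute_of_gen (by omega)
      (fun k h1 h2 => St.commute_of_lt hgap (by omega) (by omega)) hr
    have e1 : St.x 5 * y * St.x 5 = y := by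
      conv_rhs => rw [← hyi]
      rw [hy]
      simp only [mul_inv_rev, St.x_inv, mul_assoc]
      rw [St.x_mul_self, mul_one]
    have h15 : St.x 1 * St.x 5 * St.x 1 = St.x 3 * St.x 5 := by simpa using shiftc 1
    have h13 : St.x 5 * St.x 3 = St.x 3 * St.x 5 :=
      (St.commute_of_lt hgap (show (3 : ℤ) < 5 + (4 : ℕ) by norm_num) (by norm_num)).eq
    have h51 : St.x 5 * St.x 1 * St.x 5 = St.x 3 * St.x 1 := by
      have h1 : St.x 1 * St.x 5 * St.x 1 * St.x 5 = St.x 3 := by
        rw [h15, mul_assoc, St.x_mul_self, mul_one]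
      calc St.x 5 * St.x 1 * St.x 5 = St.x 1 * (St.x 1 * St.x 5 * St.x 1 * St.x 5) := by
            simp only [mul_assoc, St.x_cancel]
        _ = St.x 1 * St.x 3 := by rw [h1]
        _ = St.x 3 * St.x 1 :=
            (St.commute_of_lt hgap (show (3 : ℤ) < 1 + (4 : ℕ) by norm_num) (by norm_num)).eq
    have e2 : St.x 5 * y * St.x 5 = St.x 3 * y := by
      calc St.x 5 * y * St.x 5 = (St.x 5 * St.x 1 * St.x 5) * (St.x 5 * r * St.x 5) := by
            simp only [hrdef, mul_assoc, St.x_cancel]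
        _ = (St.x 3 * St.x 1) * r := by rw [h51, h5r.eq, mul_assoc r, St.x_mul_self, mul_one]
        _ = St.x 3 * y := by simp only [hrdef, mul_assoc, St.x_cancel]
    exact St.x_ne_one 3 (mul_eq_right.1 (e2.symm.trans e1))
  have hy2 : y ∈ St.E 2 2 := St.mem_inter (i := 1) (m := 2) (by omega) hy3 (by norm_num; exact hy4)
  set R := St.E 1 4 with hR
  have hgenR : ∀ k : ℤ, (∀ j : ℤ, 1 ≤ j → j < 5 → St.x k * St.x j * St.x k ∈ R) →
      St.x k ∈ Subgroup.normalizer (R : Set G) := by
    intro k hk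
    have hle : R ≤ R.comap (MulAut.conj (St.x k)).toMonoidHom :=
      St.E_le_of_gen 4 1 (by omega) fun j h1 h2 => by
        rw [Subgroup.mem_comap]
        show St.x k * St.x j * (St.x k)⁻¹ ∈ R
        rw [St.x_inv]; exact hk j h1 (by omega)
    rw [Subgroup.mem_normalizer_iff]
    refine fun u => ⟨fun hu => hle hu, fun hu => ?_⟩
    have hu' : St.x k * (St.x k * u * (St.x k)⁻¹) * (St.x k)⁻¹ ∈ R := hle hu
    rw [St.x_inv] at hu'
    simpa [mul_assoc, St.x_cancel, St.x_mul_self] using hu'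
  have hmemR : ∀ j : ℤ, 1 ≤ j → j < 5 → St.x j ∈ R := fun j h1 h2 => St.x_mem h1 (by omega)
  have shifty : ∀ d : ℤ, St.x d * St.x (d + 5) * St.x d * St.x (d + 5) ∈ St.E (2 + d) 2 := by
    intro d
    have h := St.conj_mem_E hy2 d
    have e : St.g ^ d * y * St.g ^ (-d) = St.x d * St.x (d + 5) * St.x d * St.x (d + 5) := by
      rw [hy, show St.g ^ (-d) = (St.g ^ d)⁻¹ from zpow_neg _ _]
      have e' : ∀ j, MulAut.conj (St.g ^ d) (St.x j) = St.x (d + j) := fun j => by
        rw [MulAut.conj_apply, ← zpow_neg, St.x_conj]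
      rw [← MulAut.conj_apply, map_mul, map_mul, map_mul, e', e', add_zero]
    rwa [e] at h
  have hin : ∀ k : ℤ, -1 ≤ k → k ≤ 6 → St.x k ∈ Subgroup.normalizer (R : Set G) := by
    intro k hk1 hk2
    refine hgenR k fun j hj1 hj2 => ?_
    by_cases hd : j < k + 4 ∧ k < j + 4
    · rw [(St.commute_of_lt hgap (by exact_mod_cast hd.1) (by exact_mod_cast hd.2)).eq, mul_assoc,
        St.x_mul_self, mul_one]
      exact hmemR j hj1 hj2
    · rcases (show j = k + 4 ∨ j = k + 5 ∨ k = j + 4 ∨ k = j + 5 by omega) with rfl | rfl | rfl | rfl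
      · rw [shiftc k]
        exact R.mul_mem (hmemR _ (by omega) (by omega)) (hmemR _ (by omega) (by omega))
      · have h1 : St.x k * St.x (k + 5) * St.x k * St.x (k + 5) ∈ R :=
          St.E_le (by omega) (by omega) (shifty k)
        have := R.mul_mem h1 (hmemR _ hj1 hj2)
        rwa [mul_assoc _ (St.x (k + 5)) (St.x (k + 5)), St.x_mul_self, mul_one] at this
      · have h1 : St.x (j + 4) * St.x j * St.x (j + 4) = St.x j * St.x (j + 2) := by
          calc St.x (j + 4) * St.x j * St.x (j + 4)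
              = St.x j * (St.x j * St.x (j + 4) * St.x j) * St.x (j + 4) := by
                simp only [mul_assoc, St.x_cancel]
            _ = _ := by rw [shiftc j]; simp only [mul_assoc, St.x_mul_self, mul_one]
        rw [h1]
        exact R.mul_mem (hmemR _ hj1 hj2) (hmemR _ (by omega) (by omega))
      · have h1 : St.x j * St.x (j + 5) * St.x j * St.x (j + 5) ∈ R :=
          St.E_le (by omega) (by omega) (shifty j)
        have := R.mul_mem (hmemR _ hj1 hj2) h1
        simpa only [mul_assoc, St.x_cancel] using this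
  have hA1 : St.E (-1) (St.n + 1) ≤ Subgroup.normalizer (R : Set G) :=
    St.vertex_le_of_gen fun k h1 h2 => hin k (by omega) (by omega)
  have hA2 : St.E 0 (St.n + 1) ≤ Subgroup.normalizer (R : Set G) :=
    St.vertex_le_of_gen fun k h1 h2 => hin k (by omega) (by omega)
  rw [St.vertexE_eq] at hA1 hA2
  have hne : St.D.f St.g (-1 + St.n) ≠ St.D.f St.g (0 + St.n) := fun e => by
    have he : St.D.S St.g (-1 + St.n) (-1 + St.n) ≤ St.D.S St.g (-1 + St.n) (0 + St.n) :=
      fun k hk => Data.mem_S.2 fun j hj hj' => by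
        rcases (show j = -1 + St.n ∨ j = 0 + St.n by omega) with rfl | rfl
        · exact Data.mem_S.1 hk _ le_rfl le_rfl
        · rw [← e]; exact Data.mem_S.1 hk _ le_rfl le_rfl
    have hc := Subgroup.card_le_of_le he
    rw [show (-1 : ℤ) + St.n = 0 + (-1 + St.n) by ring,
      show (0 : ℤ) + St.n = 1 + (-1 + St.n) by ring, Data.card_S_shift, Data.card_S_shift,
      St.card_vertex] at hc
    have := St.card_arc 1 le_rfl (by omega)
    rw [Nat.cast_one] at this
    rw [this, Nat.add_sub_cancel] at hc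
    have := Nat.two_pow_pos St.n
    omega
  have hbot := St.D.eq_bot_of_two hne (R := R) (fun r hr => by
    rw [← Data.S_self]
    exact Data.S_mono (by omega) (by omega) hr) hA1 hA2
  exact St.x_ne_one 1 ((Subgroup.eq_bot_iff_forall _).1 hbot _ (hmemR 1 le_rfl (by norm_num)))

/-- The length of a segment. -/
theorem n_le_four : St.n ≤ 4 := by
  obtain ⟨l, h1, hln, hgap, hl', hupper⟩ := St.exists_lam
  rcases eq_or_lt_of_le hln with rfl | hlt
  · omega
  · have := St.three_bound h1 hlt hgap hl'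
    by_contra h
    exact St.n_ne_six (show l = 4 by omega) (by omega) hgap hl'

end Cfsg.Agent.Perm.CubicSuborbit.Stage
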