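import Mathlib
import Cfsg.Agent.Lib.Perm.CubicSuborbit.Bound
import Cfsg.Agent.S3684

/-!
# The point stabilisers for a suborbit of length three
-/

set_option autoImplicit false
set_option linter.unusedSectionVars false

namespace Cfsg.Agent.Perm.CubicSuborbit

open MulAction

/-- The four-group of two commuting involutions. -/
def four {H : Type*} [Group H] {a b : H} (ha : a * a = 1) (hb : b * b = 1) (hc : Commute a b) :
    Subgroup H where
  carrier := {z | z = 1 ∨ z = a ∨ z = b ∨ z = a * b}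
  one_mem' := Or.inl rfl
  mul_mem' := by
    have hba : b * a = a * b := hc.eq.symm
    have h1 : a * (a * b) = b := by rw [← mul_assoc, ha, one_mul]
    have h2 : b * (a * b) = a := by rw [← mul_assoc, hba, mul_assoc, hb, mul_one]
    have h3 : a * b * a = b := by rw [mul_assoc, hba, h1]
    have h4 : a * b * b = a := by rw [mul_assoc, hb, mul_one]
    have h5 : a * b * (a * b) = 1 := by rw [mul_assoc, h2, ha]
    rintro x y (rfl | rfl | rfl | rfl) (rfl | rfl | rfl | rfl) <;>
      simp only [Set.mem_setOf_eq, one_mul, mul_one, ha, hb, hba, h1, h2, h3, h4, h5, true_or, or_true]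
  inv_mem' := by
    have hai : a⁻¹ = a := inv_eq_of_mul_eq_one_right ha
    have hbi : b⁻¹ = b := inv_eq_of_mul_eq_one_right hb
    have hab : (a * b)⁻¹ = a * b := by rw [mul_inv_rev, hai, hbi, hc.eq]
    rintro x (rfl | rfl | rfl | rfl) <;>
      simp only [Set.mem_setOf_eq, inv_one, hai, hbi, hab, true_or, or_true]

/-- Two involutions in a group of order six. -/
theorem pow_three_of_six {H : Type*} [Group H] [Finite H] (hH : Nat.card H = 6) {a b : H}
    (ha : a * a = 1) (hb : b * b = 1) (ha1 : a ≠ 1) (hb1 : b ≠ 1) (hab : a ≠ b) : (a * b) ^ 3 = 1 := by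
  classical
  haveI := Fintype.ofFinite H
  have hnc : ¬ Commute a b := by
    intro hc
    set C := Subgroup.centralizer ({a} : Set H)
    let W : Subgroup H := four ha hb hc
    have h4 : Nat.card W = 4 := by
      have e : (W : Set H) = ↑({1, a, b, a * b} : Finset H) := by
        ext z
        simp [W, four]
      change Nat.card (W : Set H) = 4
      rw [Nat.card_coe_set_eq, e, Set.ncard_coe_finset]
      have h1 : a * b ≠ 1 := fun h => hab (by
        have h' := congrArg (a * ·) h
        simp only [mul_one] at h'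
        rw [← mul_assoc, ha, one_mul] at h'
        exact h'.symm)
      have h2 : a ≠ a * b := fun h => hb1 (left_eq_mul.1 h)
      have h3 : b ≠ a * b := fun h => ha1 (right_eq_mul.1 h)
      simp [Ne.symm ha1, Ne.symm hb1, Ne.symm h1, hab, h2, h3]
    have := Subgroup.card_subgroup_dvd_card W
    rw [h4, hH] at this
    norm_num at this
  have hdvd : orderOf (a * b) ∣ 6 := hH ▸ orderOf_dvd_natCard _
  have hle : orderOf (a * b) ≤ 6 := Nat.le_of_dvd (by norm_num) hdvd
  have hpos : 0 < orderOf (a * b) := orderOf_pos _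
  have key := pow_orderOf_eq_one (a * b)
  have h2 : orderOf (a * b) ≠ 2 := fun h => hnc (Stage.commute_of_invol ha hb (by
    rw [h, pow_two] at key
    simpa [mul_assoc] using key))
  have h1 : orderOf (a * b) ≠ 1 := fun h => hab (by
    rw [h, pow_one] at key
    rw [← inv_eq_of_mul_eq_one_right key, inv_eq_of_mul_eq_one_right ha])
  have h6 : orderOf (a * b) ≠ 6 := fun h => by
    have hcyc : IsCyclic H := isCyclic_of_orderOf_eq_card (a * b) (by rw [h, hH])
    exact hnc (IsCyclic.commGroup (α := H) |>.mul_comm a b)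
  rcases (show orderOf (a * b) = 3 ∨ orderOf (a * b) = 4 ∨ orderOf (a * b) = 5 by omega) with h | h | h
  · rw [← h]; exact key
  · rw [h] at hdvd; norm_num at hdvd
  · rw [h] at hdvd; norm_num at hdvd

/-- Recognition of the symmetric group of degree four. -/
theorem equiv_s4 {A : Type*} [Group A] [Finite A] (hA : Nat.card A = 24) (Q : Subgroup A) [Q.Normal]
    (φ : DihedralGroup 3 →* A) (hφQ : ∀ d, φ d ∈ Q → d = 1)
    (hcent : ∃ v ∈ Q, ¬ Commute (φ (.r 1)) v) : Nonempty (A ≃* Equiv.Perm (Fin 4)) := by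
  classical
  have hinj : Function.Injective φ :=
    (injective_iff_map_eq_one φ).2 fun d hd => hφQ d (by rw [hd]; exact Q.one_mem)
  have hR : Nat.card φ.range = 6 := by
    rw [← Nat.card_congr (MonoidHom.ofInjective hinj).toEquiv, DihedralGroup.nat_card]
  have hidx : Nat.card (A ⧸ φ.range) = 4 := by
    have h := φ.range.card_mul_index
    rw [hA, hR] at h
    rw [← Subgroup.index_eq_card]
    omega
  have hker : Function.Injective (MulAction.toPermHom A (A ⧸ φ.range)) := by
    rw [← MonoidHom.ker_eq_bot_iff, ← Subgroup.normalCore_eq_ker]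
    set K := φ.range.normalCore
    have hcomm : ∀ d, φ d ∈ K → ∀ v ∈ Q, Commute (φ d) v := by
      intro d hd v hv
      have h1 : φ d * v * (φ d)⁻¹ * v⁻¹ ∈ Q :=
        Q.mul_mem (Subgroup.Normal.conj_mem inferInstance v hv (φ d)) (Q.inv_mem hv)
      have h2 : φ d * v * (φ d)⁻¹ * v⁻¹ ∈ K := by
        have h := K.mul_mem hd (Subgroup.Normal.conj_mem inferInstance _ (K.inv_mem hd) v)
        simpa [mul_assoc] using h
      obtain ⟨d', hd'⟩ := Subgroup.normalCore_le φ.range h2
      have h3 := hφQ d' (hd' ▸ h1)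
      rw [h3, map_one] at hd'
      exact mul_inv_eq_iff_eq_mul.1 (mul_inv_eq_one.1 hd'.symm)
    refine (Subgroup.eq_bot_iff_forall _).2 fun k hk => ?_
    obtain ⟨d, rfl⟩ := Subgroup.normalCore_le φ.range hk
    by_contra hne
    have hd : d ≠ 1 := fun h => hne (by rw [h, map_one])
    obtain ⟨v, hv, hnc⟩ := hcent
    have key : ∀ d : DihedralGroup 3, d ≠ 1 → d = .r 1 ∨ d * d = .r 1 ∨
        (.r 1 * d * (.r 1)⁻¹ * d) * (.r 1 * d * (.r 1)⁻¹ * d) = .r 1 := by decide +kernel
    apply hnc
    refine hcomm _ ?_ v hv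
    rcases key d hd with h | h | h <;> rw [← h]
    · exact hk
    · rw [map_mul]; exact K.mul_mem hk hk
    · simp only [map_mul, map_inv]
      have h' := K.mul_mem (Subgroup.Normal.conj_mem inferInstance _ hk (φ (.r 1))) hk
      exact K.mul_mem h' h'
  let e : Equiv.Perm (A ⧸ φ.range) ≃* Equiv.Perm (Fin 4) :=
    (Finite.equivFinOfCardEq hidx).permCongrHom
  refine ⟨(MulEquiv.ofBijective _ ((Nat.bijective_iff_injective_and_card _).2 ⟨hker, ?_⟩)).trans e⟩
  rw [Nat.card_congr e.toEquiv, hA, Nat.card_perm, Nat.card_fin]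
  rfl

theorem dihedral3_equiv : Nonempty (DihedralGroup 3 ≃* Equiv.Perm (Fin 3)) := by
  obtain ⟨φ, hr, hsr⟩ := Cfsg.Agent.S3684.exists_lift 3 (Equiv.swap (0 : Fin 3) 1) (finRotate 3)
    (by decide) (by decide) (by decide)
  have hinj : Function.Injective φ := by
    intro d e h
    rcases d with i | i <;> rcases e with j | j <;> simp only [hr, hsr] at h <;>
      revert h <;> revert i j <;> decide
  refine ⟨MulEquiv.ofBijective φ ((Nat.bijective_iff_injective_and_card _).2 ⟨hinj, ?_⟩)⟩
  rw [DihedralGroup.nat_card, Nat.card_perm, Nat.card_fin]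
  rfl

variable {G Ω : Type*} [Group G] [MulAction G Ω] [Finite G] [Fintype Ω] [FaithfulSMul G Ω]

namespace Stage

variable (St : Stage G Ω)

attribute [local irreducible] Stage.E

theorem lam_spec : ∃ l : ℕ, (∀ d < l, St.Gap d) ∧ ¬ St.Gap l ∧ l ≤ St.n ∧ St.n ≤ l + 1 ∧
    (St.n = 2 → l = 2) ∧ (St.n = 3 → l = 2) ∧ (St.n = 4 → l = 3) := by
  obtain ⟨l, h1, hln, hgap, hl', hupper⟩ := St.exists_lam
  have h4 := St.n_le_four
  have h3 : l < St.n → 2 * St.n ≤ 3 * l := fun h => St.three_bound h1 h hgap hl'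
  have h2 : 2 ≤ St.n → l ≠ 1 := fun h e => hl' (e ▸ St.gap_one h)
  refine ⟨l, hgap, hl', hln, ?_, ?_, ?_, ?_⟩ <;> omega

theorem mem_normalizer_of {k : ℤ} {R : Subgroup G}
    (h : ∀ u ∈ R, St.x k * u * St.x k ∈ R) : St.x k ∈ Subgroup.normalizer (R : Set G) := by
  rw [Subgroup.mem_normalizer_iff, St.x_inv]
  refine fun u => ⟨h u, fun hu => ?_⟩
  have := h _ hu
  simpa [mul_assoc, St.x_cancel, St.x_mul_self] using this

theorem Q_normal (i : ℤ) :
    St.E i (St.n + 1) ≤ Subgroup.normalizer ((St.E (i + 1) (St.n - 1) : Subgroup G) : Set G) := by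
  obtain ⟨m, hm⟩ := Nat.exists_eq_add_of_le' St.hn
  have hm' : St.n - 1 = m := by omega
  rw [hm']
  refine St.vertex_le_of_gen fun k h1 h2 => ?_
  by_cases hk : i + 1 ≤ k ∧ k < i + 1 + m
  · exact Subgroup.le_normalizer (St.x_mem hk.1 hk.2)
  · refine St.mem_normalizer_of fun u hu => ?_
    rcases (show k = i ∨ k = i + 1 + m by omega) with rfl | rfl
    · exact St.conj_mem_left (by omega) hu
    · exact St.conj_mem_right (by omega) hu

theorem x_mem_vertex (i : ℤ) {k : ℤ} (h1 : i ≤ k) (h2 : k ≤ i + St.n) :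
    St.x k ∈ St.E i (St.n + 1) := St.x_mem h1 (by omega)

/-- The complement of `Q` in a vertex stabiliser. -/
theorem exists_phi (i : ℤ) : ∃ φ : DihedralGroup 3 →* G, (∀ d, φ d ∈ St.E i (St.n + 1)) ∧
    (∀ d, φ d ∈ St.E (i + 1) (St.n - 1) → d = 1) ∧
    φ (.sr 0) = St.x i ∧ (φ (.r 1) = (St.x i * St.x (i + St.n)) ^ 4) ∧
    (St.x i * St.x (i + St.n)) ^ 3 ∈ St.E (i + 1) (St.n - 1) := by
  classical
  obtain ⟨l, hgap, -, -, hl, -⟩ := St.lam_spec
  set Q := St.E (i + 1) (St.n - 1) with hQ
  set A := St.E i (St.n + 1) with hA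
  set p := St.x i with hp
  set q := St.x (i + St.n) with hq
  have hpA : p ∈ A := St.x_mem_vertex i le_rfl (by omega)
  have hqA : q ∈ A := St.x_mem_vertex i (by omega) le_rfl
  have hQE : Q ≤ St.E i St.n := St.E_le (by omega) (by have := St.hn; omega)
  have hQA : Q ≤ A := hQE.trans (St.E_le le_rfl (by omega))
  have hpE : p ∈ St.E i St.n := St.x_mem le_rfl (by have := St.hn; omega)
  have hqE : q ∉ St.E i St.n := St.x_notMem_right le_rfl
  have hpQ : p ∉ Q := St.x_notMem_left (by omega)
  have hqQ : q ∉ Q := fun h => hqE (hQE h)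
  -- the quotient has order six
  have hM3 : (p * q) ^ 3 ∈ Q := by
    haveI : (Q.subgroupOf A).Normal := by
      refine ⟨fun u hu a => ?_⟩
      exact (Subgroup.mem_normalizer_iff.1 (St.Q_normal i a.2) (u : G)).1 hu
    have h6 : Nat.card (A ⧸ Q.subgroupOf A) = 6 := by
      have h := (Q.subgroupOf A).card_mul_index
      rw [Nat.card_congr (Subgroup.subgroupOfEquivOfLe hQA).toEquiv,
        show Nat.card Q = 2 ^ (St.n - 1) from St.card_E (by omega),
        show Nat.card A = 3 * 2 ^ St.n from St.card_vertexE i] at h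
      rw [← Subgroup.index_eq_card]
      obtain ⟨m, hm⟩ := Nat.exists_eq_add_of_le' St.hn
      have hm' : St.n - 1 = m := by omega
      rw [hm'] at h
      rw [hm] at h
      exact Nat.eq_of_mul_eq_mul_left (Nat.two_pow_pos m) (h.trans (by ring))
    let π := QuotientGroup.mk' (Q.subgroupOf A)
    have hone : ∀ u : A, π u = 1 ↔ (u : G) ∈ Q := fun u => by
      rw [QuotientGroup.mk'_apply, QuotientGroup.eq_one_iff, Subgroup.mem_subgroupOf]
    have h := pow_three_of_six h6 (a := π ⟨p, hpA⟩) (b := π ⟨q, hqA⟩)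
      (by rw [← map_mul, hone]; show p * p ∈ Q; rw [hp, St.x_mul_self]; exact Q.one_mem)
      (by rw [← map_mul, hone]; show q * q ∈ Q; rw [hq, St.x_mul_self]; exact Q.one_mem)
      (fun h => hpQ ((hone _).1 h)) (fun h => hqQ ((hone _).1 h))
      (fun h => hqE (by
        have h1 : π (⟨p, hpA⟩⁻¹ * ⟨q, hqA⟩) = 1 := by rw [map_mul, map_inv, h, inv_mul_cancel]
        have h2 := hQE ((hone _).1 h1)
        have h3 := (St.E i St.n).mul_mem hpE h2
        simpa using h3))
    rw [← map_mul, ← map_pow, hone] at h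
    exact h
  set M := p * q with hM
  set t := M ^ 4 with ht
  have hM6 : M ^ 6 = 1 := by
    rw [show 6 = 3 + 3 from rfl, pow_add]
    exact St.sq_E hgap _ (by omega) (by omega) hM3
  have ht3 : t ^ 3 = 1 := by
    rw [ht, ← pow_mul, show 4 * 3 = 6 * 2 from rfl, pow_mul, hM6, one_pow]
  have hpp : p * p = 1 := St.x_mul_self i
  have hpt : p * t * p = t⁻¹ := by
    have h1 : p * M * p⁻¹ = M⁻¹ := by
      rw [hM, mul_inv_rev, hp, hq, St.x_inv, St.x_inv]
      rw [← mul_assoc, St.x_mul_self, one_mul]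
    have h2 : (p * M * p⁻¹) ^ 4 = p * t * p⁻¹ := conj_pow
    rw [h1, inv_pow, ← ht] at h2
    rw [h2, hp, St.x_inv]
  obtain ⟨φ, hr, hsr⟩ := Cfsg.Agent.S3684.exists_lift 3 p t hpp ht3 hpt
  have htA : t ∈ A := A.pow_mem (A.mul_mem hpA hqA) 4
  have htE : t ∉ St.E i St.n := fun h => hqE (by
    have h1 : M ∈ St.E i St.n := by
      have h2 := (St.E i St.n).mul_mem h ((St.E i St.n).inv_mem (hQE hM3))
      rwa [ht, show M ^ 4 * (M ^ 3)⁻¹ = M by group] at h2
    have h3 := (St.E i St.n).mul_mem hpE h1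
    rwa [hM, hp, St.x_cancel] at h3)
  have ht2 : ∀ j : ZMod 3, j ≠ 0 → t ^ j.val ∉ St.E i St.n := by
    intro j hj h
    have hcase := (by decide : ∀ j : ZMod 3, j ≠ 0 → j = 1 ∨ j = 2) j hj
    rcases hcase with rfl | rfl
    · exact htE (by rwa [show ((1 : ZMod 3).val) = 1 from rfl, pow_one] at h)
    · apply htE
      have h' := (St.E i St.n).mul_mem h h
      rw [show ((2 : ZMod 3).val) = 2 from rfl, ← pow_add, show 2 + 2 = 3 + 1 from rfl, pow_succ, ht3,
        one_mul] at h'
      exact h'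
  refine ⟨φ, fun d => ?_, fun d hd => ?_, ?_, ?_, hM3⟩
  · rcases d with j | j
    · rw [hr]; exact A.pow_mem htA _
    · rw [hsr]; exact A.mul_mem hpA (A.pow_mem htA _)
  · rcases d with j | j
    · by_cases hj : j = 0
      · subst hj; rfl
      · rw [hr] at hd
        exact absurd (hQE hd) (ht2 j hj)
    · rw [hsr] at hd
      by_cases hj : j = 0
      · subst hj
        rw [ZMod.val_zero, pow_zero, mul_one] at hd
        exact absurd hd hpQ
      · refine absurd ?_ (ht2 j hj)
        have h' := (St.E i St.n).mul_mem hpE (hQE hd)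
        rwa [hp, St.x_cancel] at h'
  · rw [hsr, ZMod.val_zero, pow_zero, mul_one]
  · rw [hr, show ((1 : ZMod 3).val) = 1 from rfl, pow_one]

theorem equiv_one (i : ℤ) (hn : St.n = 1) :
    Nonempty (St.E i (St.n + 1) ≃* Equiv.Perm (Fin 3)) := by
  obtain ⟨φ, hφA, hφQ, -⟩ := St.exists_phi i
  let ψ := φ.codRestrict (St.E i (St.n + 1)) hφA
  have hinj : Function.Injective ψ := (injective_iff_map_eq_one ψ).2 fun d hd => hφQ d (by
    rw [show φ d = ((ψ d : St.E i (St.n + 1)) : G) from rfl, hd]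
    exact Subgroup.one_mem _)
  obtain ⟨e⟩ := dihedral3_equiv
  refine ⟨(MulEquiv.ofBijective ψ ((Nat.bijective_iff_injective_and_card _).2 ⟨hinj, ?_⟩)).symm.trans e⟩
  rw [DihedralGroup.nat_card, St.card_vertexE, hn]
  norm_num

theorem equiv_two (i : ℤ) (hn : St.n = 2) :
    Nonempty (St.E i (St.n + 1) ≃* DihedralGroup 6) := by
  obtain ⟨l, hgap, -, -, -, hl2, -⟩ := St.lam_spec
  obtain ⟨φ, hφA, hφQ, hp, ht, -⟩ := St.exists_phi i
  have hl := hl2 hn
  set z := St.x (i + 1) with hz
  set t := φ (.r 1) with htdef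
  set p := φ (.sr 0) with hpdef
  have hzp : Commute z p := by rw [hp]; exact St.commute_of_lt hgap (by omega) (by omega)
  have hzt : Commute z t := by
    rw [ht]
    exact (Commute.mul_right (St.commute_of_lt hgap (by omega) (by omega))
      (St.commute_of_lt hgap (by omega) (by omega))).pow_right 4
  have hzz : z * z = 1 := St.x_mul_self _
  have hzQ : z ∈ St.E (i + 1) (St.n - 1) := St.x_mem le_rfl (by omega)
  have ht3 : t ^ 3 = 1 := by
    rw [htdef, ← map_pow, show (DihedralGroup.r 1 : DihedralGroup 3) ^ 3 = 1 by decide +kernel, map_one]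
  have hr6 : (t * z) ^ 6 = 1 := by
    rw [hzt.symm.mul_pow, show 6 = 3 * 2 from rfl, pow_mul, ht3, one_pow, one_mul, mul_comm 3 2,
      pow_mul, pow_two, hzz, one_pow]
  have hpp : p * p = 1 := by
    rw [hpdef, ← map_mul, show (DihedralGroup.sr 0 : DihedralGroup 3) * .sr 0 = 1 by decide +kernel, map_one]
  have hpt : p * t * p = t⁻¹ := by
    rw [hpdef, htdef, ← map_mul, ← map_mul, ← map_inv]
    congr 1
  have hprp : p * (t * z) * p = (t * z)⁻¹ := by
    rw [mul_inv_rev, inv_eq_of_mul_eq_one_right hzz]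
    calc p * (t * z) * p = p * t * p * z := by simp only [mul_assoc, hzp.eq]
      _ = z * t⁻¹ := by rw [hpt, hzt.inv_right.eq]
  obtain ⟨ψ, hψr, hψsr⟩ := Cfsg.Agent.S3684.exists_lift 6 p (t * z) hpp hr6 hprp
  have hzA : z ∈ St.E i (St.n + 1) := St.x_mem_vertex i (by omega) (by omega)
  have hψA : ∀ d, ψ d ∈ St.E i (St.n + 1) := fun d => by
    rcases d with j | j
    · rw [hψr]; exact Subgroup.pow_mem _ (Subgroup.mul_mem _ (hφA _) hzA) _
    · rw [hψsr]
      exact Subgroup.mul_mem _ (hφA _) (Subgroup.pow_mem _ (Subgroup.mul_mem _ (hφA _) hzA) _)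
  let χ := ψ.codRestrict (St.E i (St.n + 1)) hψA
  have hinj : Function.Injective χ := (injective_iff_map_eq_one χ).2 fun d hd => by
    have hd' : ψ d = 1 := congrArg Subtype.val hd
    rcases d with j | j
    · rw [hψr, hzt.symm.mul_pow] at hd'
      have hk : φ (.r 1 ^ j.val) ∈ St.E (i + 1) (St.n - 1) := by
        rw [map_pow, ← htdef, eq_inv_of_mul_eq_one_left hd']
        exact Subgroup.inv_mem _ (Subgroup.pow_mem _ hzQ _)
      have hk1 := hφQ _ hk
      rw [← map_one φ] at hd'
      rw [htdef, ← map_pow, hk1, map_one, one_mul] at hd'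
      have hfin : ∀ j : ZMod 6, (DihedralGroup.r 1 : DihedralGroup 3) ^ j.val = 1 →
          j = 0 ∨ j = 3 := by decide +kernel
      rcases hfin j hk1 with rfl | rfl
      · rfl
      · exfalso
        rw [show ((3 : ZMod 6).val) = 2 + 1 from rfl, pow_succ, pow_two, hzz, one_mul] at hd'
        exact St.x_ne_one _ hd'
    · rw [hψsr, hzt.symm.mul_pow, ← mul_assoc] at hd'
      have hk : φ (.sr 0 * .r 1 ^ j.val) ∈ St.E (i + 1) (St.n - 1) := by
        rw [map_mul, map_pow, ← htdef, ← hpdef, eq_inv_of_mul_eq_one_left hd']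
        exact Subgroup.inv_mem _ (Subgroup.pow_mem _ hzQ _)
      have hk1 := hφQ _ hk
      exfalso
      have hfin : ∀ j : ZMod 6, (DihedralGroup.sr 0 : DihedralGroup 3) * .r 1 ^ j.val ≠ 1 := by
        decide +kernel
      exact hfin j hk1
  refine ⟨(MulEquiv.ofBijective χ ((Nat.bijective_iff_injective_and_card _).2 ⟨hinj, ?_⟩)).symm⟩
  rw [DihedralGroup.nat_card, St.card_vertexE, hn]
  norm_num

theorem conj_right (i : ℤ) (l : ℕ) :
    St.x i * St.x (i + l) * St.x i = (St.g ^ i * St.w l * St.g ^ (-i)) * St.x (i + l) := by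
  have e : ∀ j, MulAut.conj (St.g ^ i) (St.x j) = St.x (i + j) := fun j => by
    rw [MulAut.conj_apply, ← zpow_neg, St.x_conj]
  have h : St.g ^ i * St.w l * St.g ^ (-i) = MulAut.conj (St.g ^ i) (St.w l) := by
    rw [MulAut.conj_apply, ← zpow_neg]
  rw [h, w, map_mul, map_mul, map_mul, e, e, add_zero, mul_assoc _ (St.x (i + l)) (St.x (i + l)),
    St.x_mul_self, mul_one]

theorem conj_left (i : ℤ) (l : ℕ) :
    St.x (i + l) * St.x i * St.x (i + l) = St.x i * (St.g ^ i * St.w l * St.g ^ (-i)) := by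
  have h := St.conj_right i l
  calc St.x (i + l) * St.x i * St.x (i + l)
      = St.x i * ((St.x i * St.x (i + l) * St.x i) * St.x (i + l)) := by
        simp only [mul_assoc, St.x_cancel]
    _ = _ := by rw [h, mul_assoc _ (St.x (i + l)), St.x_mul_self, mul_one]

theorem equiv_three (i : ℤ) (hn : St.n = 3) :
    Nonempty (St.E i (St.n + 1) ≃* Equiv.Perm (Fin 4)) := by
  classical
  obtain ⟨l, hgap, hl', -, -, -, hl3, -⟩ := St.lam_spec
  obtain rfl := hl3 hn
  obtain ⟨φ, hφA, hφQ, hp, ht, hM3⟩ := St.exists_phi i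
  set A := St.E i (St.n + 1) with hA
  set Q := St.E (i + 1) (St.n - 1) with hQ
  haveI : (Q.subgroupOf A).Normal :=
    ⟨fun u hu a => (Subgroup.mem_normalizer_iff.1 (St.Q_normal i a.2) (u : G)).1 hu⟩
  have hw : St.w 2 = St.x 1 :=
    (St.eq_one_or_x (St.w_mem (l := 2) (by norm_num) (by omega))).resolve_left (St.w_ne_one hl')
  set v := St.x (i + 2) with hv
  have hvQ : v ∈ Q := St.x_mem (by omega) (by omega)
  refine equiv_s4 (by rw [St.card_vertexE, hn]; norm_num) (Q.subgroupOf A)
    (φ.codRestrict A hφA) (fun d hd => hφQ d hd)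
    ⟨⟨v, St.x_mem (by omega) (by omega)⟩, hvQ, fun hc => ?_⟩
  have hc' : Commute (φ (.r 1)) v := congrArg Subtype.val hc
  rw [ht] at hc'
  set M := St.x i * St.x (i + St.n) with hM
  have hMv : Commute M v := by
    have hM3v : Commute (M ^ 3) v := St.comm_E hgap (by omega) (by omega) hM3 hvQ
    have := hc'.mul_left hM3v.inv_left
    rwa [show M ^ 4 * (M ^ 3)⁻¹ = M by group] at this
  have h1 : St.x (i + St.n) * v * St.x (i + St.n) = v := by
    rw [(St.commute_of_lt hgap (k := i + St.n) (k' := i + 2) (by omega) (by omega)).eq, mul_assoc,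
      St.x_mul_self, mul_one]
  have h2 : St.x i * v * St.x i = v := by
    calc St.x i * v * St.x i = St.x i * (St.x (i + St.n) * v * St.x (i + St.n)) * St.x i := by rw [h1]
      _ = M * v * M⁻¹ := by simp only [hM, mul_inv_rev, St.x_inv, mul_assoc]
      _ = v := by rw [hMv.eq, mul_inv_cancel_right]
  have h3 := St.conj_right i 2
  rw [Nat.cast_ofNat, ← hv, h2, hw, St.x_conj] at h3
  exact St.x_ne_one (i + 1) (mul_eq_right.1 h3.symm)

/-- The case of segments with five edges. -/
theorem equiv_four (i : ℤ) (hn : St.n = 4) :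
    Nonempty (St.E i (St.n + 1) ≃* Equiv.Perm (Fin 4) × Multiplicative (ZMod 2)) := by
  classical
  obtain ⟨l, hgap, hl', -, -, -, -, hl4⟩ := St.lam_spec
  obtain rfl := hl4 hn
  obtain ⟨φ, hφA, hφQ, hp, ht, hM3⟩ := St.exists_phi i
  have hm : St.n - 1 = 3 := by omega
  rw [hm] at hφQ hM3
  set a := St.x (i + 1) with ha
  set b := St.x (i + 2) with hb
  set c := St.x (i + 3) with hc
  have comm : ∀ {k k' : ℤ}, k' < k + 3 → k < k' + 3 → ∀ z : G,
      St.x k * (St.x k' * z) = St.x k' * (St.x k * z) := fun h1 h2 z => by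
    rw [← mul_assoc, (St.commute_of_lt hgap (by exact_mod_cast h1) (by exact_mod_cast h2)).eq, mul_assoc]
  have comm' : ∀ {k k' : ℤ}, k' < k + 3 → k < k' + 3 → St.x k * St.x k' = St.x k' * St.x k :=
    fun h1 h2 => (St.commute_of_lt hgap (by exact_mod_cast h1) (by exact_mod_cast h2)).eq
  have hab : a * b = b * a := comm' (by omega) (by omega)
  have hac : a * c = c * a := comm' (by omega) (by omega)
  have hbc : b * c = c * b := comm' (by omega) (by omega)
  have cancel : ∀ k z, St.x k * (St.x k * z) = z := St.x_cancel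
  have ha1 : a ≠ 1 := St.x_ne_one _
  have hb1 : b ≠ 1 := St.x_ne_one _
  have hbca : a ≠ b * c := fun h => St.x_notMem_left (i := i + 1) (m := 2) (by omega) (by
    rw [← ha, h]
    exact Subgroup.mul_mem _ (St.x_mem (by omega) (by omega)) (St.x_mem (by omega) (by omega)))
  set P := MulAut.conj (St.x i) with hP
  set R := MulAut.conj (St.x (i + 4)) with hR
  have hfix : ∀ {k k' : ℤ}, k' < k + 3 → k < k' + 3 → MulAut.conj (St.x k) (St.x k') = St.x k' :=
    fun h1 h2 => by rw [MulAut.conj_apply, comm' h1 h2, mul_inv_cancel_right]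
  have hPa : P a = a := hfix (by omega) (by omega)
  have hPb : P b = b := hfix (by omega) (by omega)
  have hRb : R b = b := hfix (by omega) (by omega)
  have hRc : R c = c := hfix (by omega) (by omega)
  have hw2 : St.w 3 ∈ St.E 1 2 := St.w_mem (l := 3) (by norm_num) (by omega)
  have hwcases : St.w 3 = St.x 1 ∨ St.w 3 = St.x 2 ∨ St.w 3 = St.x 1 * St.x 2 := by
    rcases St.decomp_left (by omega) hw2 with h | h <;> norm_num at h <;>
      rcases St.eq_one_or_x h with h' | h'
    · exact absurd h' (St.w_ne_one hl')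
    · exact Or.inr (Or.inl h')
    · exact Or.inl (by rw [← St.x_inv 1]; exact eq_inv_of_mul_eq_one_right h')
    · exact Or.inr (Or.inr (by rw [← h', St.x_cancel]))
  have hPc : ∀ u, St.g ^ i * St.w 3 * St.g ^ (-i) = u → P c = u * c := fun u hu => by
    rw [hP, MulAut.conj_apply, St.x_inv, ← hu]
    have := St.conj_right i 3
    rwa [Nat.cast_ofNat] at this
  have hRa : ∀ u, St.g ^ (i + 1) * St.w 3 * St.g ^ (-(i + 1)) = u → R a = a * u := fun u hu => by
    rw [hR, MulAut.conj_apply, St.x_inv, ← hu]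
    have := St.conj_left (i + 1) 3
    rwa [Nat.cast_ofNat, show i + 1 + 3 = i + 4 by ring] at this
  have hM : MulAut.conj (St.x i * St.x (i + St.n)) = P * R := by
    rw [map_mul, hn]; rfl
  have hfix3 : ∀ z, z ∈ St.E (i + 1) 3 → P (R (P (R (P (R z))))) = z := fun z hz => by
    have h3 : MulAut.conj ((St.x i * St.x (i + St.n)) ^ 3) z = z := by
      rw [MulAut.conj_apply, (St.comm_E hgap (by omega) le_rfl hM3 hz).eq, mul_inv_cancel_right]
    rw [map_pow, hM] at h3
    exact h3
  have hcQ : c ∈ St.E (i + 1) 3 := St.x_mem (by omega) (by omega)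
  have hw : St.w 3 = St.x 1 * St.x 2 := by
    rcases hwcases with h | h | h
    · exfalso
      have e1 := hPc a (by rw [h, St.x_conj])
      have e2 := hRa b (by rw [h, St.x_conj, add_assoc]; rfl)
      have e := hfix3 c hcQ
      simp only [hRc, e1, map_mul, e2, hPa, hPb, hRb] at e
      have ca : ∀ z, a * (a * z) = z := cancel _
      have cb : ∀ z, b * (b * z) = z := cancel _
      simp only [mul_assoc, ca, cb] at e
      rw [← mul_assoc, ← hab] at e
      have h' : a * b = 1 := mul_eq_right.1 e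
      exact absurd (eq_inv_of_mul_eq_one_left h') (by
        rw [St.x_inv]
        exact fun h'' => St.x_notMem_left (i := i + 1) (m := 1) (by omega)
          (by rw [← ha, h'']; exact St.x_mem (by omega) (by omega)))
    · exfalso
      have e1 := hPc b (by rw [h, St.x_conj])
      have e := hfix3 c hcQ
      simp only [hRc, e1, map_mul, hPb, hRb] at e
      rw [← mul_assoc, ← mul_assoc, hb, St.x_mul_self, one_mul] at e
      exact hb1 (mul_eq_right.1 e)
    · exact h
  have hconjw : ∀ j : ℤ, St.g ^ j * St.w 3 * St.g ^ (-j) = St.x (j + 1) * St.x (j + 2) := fun j => by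
    rw [hw, ← St.x_conj j 1, ← St.x_conj j 2]
    group
  have e1 : P c = a * b * c := hPc _ (hconjw i)
  have e2 : R a = a * (b * c) := hRa _ (by rw [hconjw, add_assoc, add_assoc]; rfl)
  set A := St.E i (St.n + 1) with hA
  have hmemA : ∀ k, i ≤ k → k ≤ i + 4 → St.x k ∈ A := fun k h1 h2 =>
    St.x_mem_vertex i h1 (by omega)
  have haA : a ∈ A := hmemA _ (by omega) (by omega)
  have hbA : b ∈ A := hmemA _ (by omega) (by omega)
  have hcA : c ∈ A := hmemA _ (by omega) (by omega)
  -- the four-group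
  set u₁ := a * b with hu1
  set u₂ := b * c with hu2
  have hu11 : u₁ * u₁ = 1 := St.sq_E hgap (m := 3) (i + 1) (by omega) le_rfl
    (Subgroup.mul_mem _ (St.x_mem (by omega) (by omega)) (St.x_mem (by omega) (by omega)))
  have hu22 : u₂ * u₂ = 1 := St.sq_E hgap (m := 3) (i + 1) (by omega) le_rfl
    (Subgroup.mul_mem _ (St.x_mem (by omega) (by omega)) (St.x_mem (by omega) (by omega)))
  have hu12 : Commute u₁ u₂ := St.comm_E hgap (m := 3) (i := i + 1) (by omega) le_rfl
    (Subgroup.mul_mem _ (St.x_mem (by omega) (by omega)) (St.x_mem (by omega) (by omega)))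
    (Subgroup.mul_mem _ (St.x_mem (by omega) (by omega)) (St.x_mem (by omega) (by omega)))
  let V : Subgroup G := four hu11 hu22 hu12
  have hbb : b * b = 1 := St.x_mul_self _
  have h13 : u₁ * u₂ = a * c := by rw [hu1, hu2, mul_assoc, ← mul_assoc b, hbb, one_mul]
  have hu1V : u₁ ∈ V := Or.inr (Or.inl rfl)
  have hu2V : u₂ ∈ V := Or.inr (Or.inr (Or.inl rfl))
  have hVA : V ≤ A := by
    rintro x (rfl | rfl | rfl | rfl)
    exacts [A.one_mem, A.mul_mem haA hbA, A.mul_mem hbA hcA,
      A.mul_mem (A.mul_mem haA hbA) (A.mul_mem hbA hcA)]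
  have hnormV : A ≤ Subgroup.normalizer (V : Set G) := by
    refine St.vertex_le_of_gen fun k h1 h2 => St.mem_normalizer_of ?_
    have hgen : MulAut.conj (St.x k) u₁ ∈ V → MulAut.conj (St.x k) u₂ ∈ V →
        ∀ u ∈ V, St.x k * u * St.x k ∈ V := by
      intro g1 g2 u hu
      have hu' : MulAut.conj (St.x k) u ∈ V := by
        rcases hu with rfl | rfl | rfl | rfl
        exacts [by rw [map_one]; exact V.one_mem, g1, g2, by rw [map_mul]; exact V.mul_mem g1 g2]
      rwa [MulAut.conj_apply, St.x_inv] at hu'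
    rcases (show k = i ∨ k = i + 4 ∨ (i + 1 ≤ k ∧ k ≤ i + 3) by omega) with rfl | rfl | h
    · refine hgen ?_ ?_
      · rw [hu1, map_mul]; change P a * P b ∈ V; rw [hPa, hPb]; exact hu1V
      · rw [hu2, map_mul]
        change P b * P c ∈ V
        rw [hPb, e1, hab, mul_assoc b, ← mul_assoc b b, hbb, one_mul, ← h13]
        exact V.mul_mem hu1V hu2V
    · refine hgen ?_ ?_
      · rw [hu1, map_mul]
        change R a * R b ∈ V
        rw [hRb, e2, mul_assoc a, hbc, mul_assoc c, hbb, mul_one, ← h13]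
        exact V.mul_mem hu1V hu2V
      · rw [hu2, map_mul]; change R b * R c ∈ V; rw [hRb, hRc]; exact hu2V
    · refine hgen ?_ ?_ <;> rw [MulAut.conj_apply]
      · rw [(St.comm_E hgap (m := 3) (i := i + 1) (by omega) le_rfl (St.x_mem (k := k) h.1 (by omega))
          (Subgroup.mul_mem _ (St.x_mem (by omega) (by omega)) (St.x_mem (by omega) (by omega)))).eq,
          mul_inv_cancel_right]
        exact hu1V
      · rw [(St.comm_E hgap (m := 3) (i := i + 1) (by omega) le_rfl (St.x_mem (k := k) h.1 (by omega))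
          (Subgroup.mul_mem _ (St.x_mem (by omega) (by omega)) (St.x_mem (by omega) (by omega)))).eq,
          mul_inv_cancel_right]
        exact hu2V
  have hbV : b ∉ V := by
    rintro (h | h | h | h)
    · exact hb1 h
    · exact ha1 (right_eq_mul.1 h)
    · exact St.x_ne_one (i + 3) (left_eq_mul.1 h)
    · rw [h13] at h
      apply hbca
      calc a = a * (c * c) := by rw [hc, St.x_mul_self, mul_one]
        _ = b * c := by rw [← mul_assoc, ← h]
  have hVQ : V ≤ St.E (i + 1) 3 := by
    rintro x (rfl | rfl | rfl | rfl)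
    exacts [Subgroup.one_mem _,
      Subgroup.mul_mem _ (St.x_mem (by omega) (by omega)) (St.x_mem (by omega) (by omega)),
      Subgroup.mul_mem _ (St.x_mem (by omega) (by omega)) (St.x_mem (by omega) (by omega)),
      Subgroup.mul_mem _ (Subgroup.mul_mem _ (St.x_mem (by omega) (by omega)) (St.x_mem (by omega) (by omega)))
        (Subgroup.mul_mem _ (St.x_mem (by omega) (by omega)) (St.x_mem (by omega) (by omega)))]
  haveI hVn : (V.subgroupOf A).Normal :=
    ⟨fun u hu g => (Subgroup.mem_normalizer_iff.1 (hnormV g.2) (u : G)).1 hu⟩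
  let ψ : DihedralGroup 3 →* A := φ.codRestrict A hφA
  let U : Subgroup A := V.subgroupOf A ⊔ ψ.range
  let bA : A := ⟨b, hbA⟩
  let Z : Subgroup A := Subgroup.zpowers bA
  have hbU : bA ∉ U := by
    intro h
    obtain ⟨v, hv, y, ⟨d, rfl⟩, he⟩ := Subgroup.mem_sup_of_normal_left.1 h
    have he' : (v : G) * φ d = b := congrArg Subtype.val he
    have hd : d = 1 := hφQ d (by
      rw [show φ d = (v : G)⁻¹ * b by rw [← he', inv_mul_cancel_left]]
      exact Subgroup.mul_mem _ (Subgroup.inv_mem _ (hVQ hv)) (St.x_mem (by omega) (by omega)))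
    rw [hd, map_one, mul_one] at he'
    exact hbV (he' ▸ hv)
  have hbc' : ∀ w : A, Commute bA w := fun w => Subtype.ext (by
    have hle : A ≤ Subgroup.centralizer {b} := St.vertex_le_of_gen fun k h1 h2 =>
      Subgroup.mem_centralizer_iff.2 fun y hy => by
        rw [Set.mem_singleton_iff.1 hy]
        exact comm' (by omega) (by omega)
    exact Subgroup.mem_centralizer_iff.1 (hle w.2) b rfl)
  let Φ : U × Z →* A := MonoidHom.noncommCoprod U.subtype Z.subtype fun u z => by
    obtain ⟨j, hj⟩ := Subgroup.mem_zpowers_iff.1 z.2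
    show Commute (u : A) (z : A)
    rw [← hj]
    exact ((hbc' u).zpow_left j).symm
  have hZcases : ∀ z ∈ Z, z = 1 ∨ z = bA := by
    intro z hz
    obtain ⟨j, rfl⟩ := Subgroup.mem_zpowers_iff.1 hz
    have h2 : bA ^ (2 : ℤ) = 1 := by rw [zpow_two]; exact Subtype.ext hbb
    rcases Int.even_or_odd' j with ⟨k, rfl | rfl⟩
    · exact Or.inl (by rw [zpow_mul, h2, one_zpow])
    · exact Or.inr (by rw [zpow_add, zpow_mul, h2, one_zpow, one_mul, zpow_one])
  have hZcard : Nat.card Z = 2 := by
    rw [Nat.card_zpowers]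
    exact orderOf_eq_prime (by rw [pow_two]; exact Subtype.ext hbb)
      fun h => hb1 (congrArg Subtype.val h)
  have hΦinj : Function.Injective Φ := (injective_iff_map_eq_one Φ).2 fun x hx => by
    have hx' : (x.1 : A) * (x.2 : A) = 1 := hx
    rcases hZcases x.2 x.2.2 with hz | hz
    · rw [hz, mul_one] at hx'
      exact Prod.ext (Subtype.ext hx') (Subtype.ext hz)
    · rw [hz] at hx'
      refine absurd ?_ hbU
      rw [eq_inv_of_mul_eq_one_right hx']
      exact U.inv_mem x.1.2
  have hΦsurj : Function.Surjective Φ := by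
    rw [← MonoidHom.range_eq_top]
    have hU : U ≤ Φ.range := fun u hu => ⟨(⟨u, hu⟩, 1), by simp [Φ]⟩
    have hZ : Z ≤ Φ.range := fun z hz => ⟨(1, ⟨z, hz⟩), by simp [Φ]⟩
    have hQ : (St.E (i + 1) 3).subgroupOf A ≤ Φ.range := by
      have hle : St.E (i + 1) 3 ≤ Φ.range.map A.subtype := by
        refine St.E_le_of_gen 3 (i + 1) (by omega) fun k h1 h2 => ?_
        rcases (show k = i + 1 ∨ k = i + 2 ∨ k = i + 3 by omega) with rfl | rfl | rfl
        · refine ⟨⟨u₁, hVA hu1V⟩ * bA, Φ.range.mul_mem (hU (Subgroup.mem_sup_left hu1V))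
            (hZ (Subgroup.mem_zpowers _)), ?_⟩
          show u₁ * b = a
          rw [hu1, mul_assoc, hbb, mul_one]
        · exact ⟨bA, hZ (Subgroup.mem_zpowers _), rfl⟩
        · refine ⟨bA * ⟨u₂, hVA hu2V⟩, Φ.range.mul_mem (hZ (Subgroup.mem_zpowers _))
            (hU (Subgroup.mem_sup_left hu2V)), ?_⟩
          show b * u₂ = c
          rw [hu2, ← mul_assoc, hbb, one_mul]
      intro u hu
      obtain ⟨y, hy, hyu⟩ := hle hu
      rwa [← (Subtype.ext hyu : y = u)]
    have hcardQ : Nat.card ((St.E (i + 1) 3).subgroupOf A) = 8 := by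
      rw [Nat.card_congr (Subgroup.subgroupOfEquivOfLe (St.E_le (by omega) (by omega))).toEquiv,
        St.card_E (by omega)]
      rfl
    let F : (St.E (i + 1) 3).subgroupOf A × DihedralGroup 3 → A := fun x => x.1 * ψ x.2
    have hFinj : Function.Injective F := by
      intro x y h
      have h' : (x.1 : A) * ψ x.2 = y.1 * ψ y.2 := h
      have hd : x.2 * y.2⁻¹ = 1 := hφQ _ (by
        have h2 : ψ (x.2 * y.2⁻¹) = (x.1 : A)⁻¹ * y.1 := by
          rw [map_mul, map_inv, ← inv_mul_cancel_left (x.1 : A) (ψ x.2), h']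
          group
        rw [show φ (x.2 * y.2⁻¹) = ((ψ (x.2 * y.2⁻¹) : A) : G) from rfl, h2]
        exact Subgroup.mul_mem _ (Subgroup.inv_mem _ x.1.2) y.1.2)
      rw [mul_inv_eq_one] at hd
      rw [hd] at h'
      exact Prod.ext (Subtype.ext (mul_right_cancel h')) hd
    have hFbij : Function.Bijective F := (Nat.bijective_iff_injective_and_card _).2 ⟨hFinj, by
      rw [Nat.card_prod, hcardQ, DihedralGroup.nat_card, show Nat.card A = 3 * 2 ^ St.n from St.card_vertexE i, hn]
      norm_num⟩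
    refine eq_top_iff.2 fun w _ => ?_
    obtain ⟨⟨qq, d⟩, rfl⟩ := hFbij.2 w
    exact Φ.range.mul_mem (hQ qq.2) (hU (Subgroup.mem_sup_right ⟨d, rfl⟩))
  let Ψ : U × Z ≃* A := MulEquiv.ofBijective Φ ⟨hΦinj, hΦsurj⟩
  have hUcard : Nat.card U = 24 := by
    have h := Nat.card_congr Ψ.toEquiv
    rw [Nat.card_prod, hZcard, show Nat.card A = 3 * 2 ^ St.n from St.card_vertexE i, hn] at h
    norm_num at h
    omega
  obtain ⟨eU⟩ := equiv_s4 hUcard ((V.subgroupOf A).subgroupOf U)
    (ψ.codRestrict U fun d => Subgroup.mem_sup_right ⟨d, rfl⟩) (fun d hd => hφQ d (hVQ hd)) (by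
      refine ⟨⟨⟨u₂, hVA hu2V⟩, Subgroup.mem_sup_left hu2V⟩, hu2V, fun hc' => ?_⟩
      have hc'' : Commute (φ (.r 1)) u₂ := hc'.map (A.subtype.comp U.subtype)
      rw [ht] at hc''
      set M := St.x i * St.x (i + St.n) with hMdef
      have hM3v : Commute (M ^ 3) u₂ := St.comm_E hgap (by omega) le_rfl hM3 (hVQ hu2V)
      have hMu : Commute M u₂ := by
        have := hc''.mul_left hM3v.inv_left
        rwa [show M ^ 4 * (M ^ 3)⁻¹ = M by group] at this
      have e3 : MulAut.conj M u₂ = u₂ := by rw [MulAut.conj_apply, hMu.eq, mul_inv_cancel_right]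
      rw [hM] at e3
      change P (R u₂) = u₂ at e3
      rw [hu2, map_mul, map_mul, hRb, hRc, hPb, e1] at e3
      have e4 : a * b * c = c := mul_left_cancel e3
      have e5 : a * b = 1 := mul_eq_right.1 e4
      exact hbV (by
        rw [show b = a⁻¹ from eq_inv_of_mul_eq_one_right e5]
        have : u₁ = 1 := e5
        exact absurd e5 (fun h => St.x_notMem_left (i := i + 1) (m := 1) (by omega) (by
          rw [← ha, eq_inv_of_mul_eq_one_left h, hb, St.x_inv]
          exact St.x_mem (by omega) (by omega)))))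
  haveI : Fact (Nat.Prime 2) := ⟨Nat.prime_two⟩
  let eZ : Z ≃* Multiplicative (ZMod 2) :=
    mulEquivOfPrimeCardEq hZcard (by simp [Nat.card_zmod])
  exact ⟨Ψ.symm.trans (MulEquiv.prodCongr eU eZ)⟩

end Stage

/-- The five possibilities. -/
theorem Data.equiv_stab (D : Data G Ω) :
    Nonempty (stabilizer G D.a ≃* Multiplicative (ZMod 3)) ∨
      Nonempty (stabilizer G D.a ≃* Equiv.Perm (Fin 3)) ∨
      Nonempty (stabilizer G D.a ≃* DihedralGroup 6) ∨
      Nonempty (stabilizer G D.a ≃* Equiv.Perm (Fin 4)) ∨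
      Nonempty (stabilizer G D.a ≃* Equiv.Perm (Fin 4) × Multiplicative (ZMod 2)) := by
  rcases D.isSym_or_card with hs | h3
  · obtain ⟨St, rfl⟩ := D.exists_stage hs
    have h4 := St.n_le_four
    have h1 := St.hn
    have hE : St.E (-St.n : ℤ) (St.n + 1) = stabilizer G St.D.a := by
      rw [St.vertexE_eq, neg_add_cancel]
      simp [Data.f]
    let e := MulEquiv.subgroupCongr hE.symm
    rcases (show St.n = 1 ∨ St.n = 2 ∨ St.n = 3 ∨ St.n = 4 by omega) with h | h | h | h
    · exact Or.inr (Or.inl ((St.equiv_one _ h).map e.trans))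
    · exact Or.inr (Or.inr (Or.inl ((St.equiv_two _ h).map e.trans)))
    · exact Or.inr (Or.inr (Or.inr (Or.inl ((St.equiv_three _ h).map e.trans))))
    · exact Or.inr (Or.inr (Or.inr (Or.inr ((St.equiv_four _ h).map e.trans))))
  · haveI : Fact (Nat.Prime 3) := ⟨Nat.prime_three⟩
    exact Or.inl ⟨mulEquivOfPrimeCardEq h3 (by simp [Nat.card_zmod])⟩

/-- The order of the point stabiliser. -/
theorem Data.card_stab (D : Data G Ω) :
    ∃ k : ℕ, k ≤ 4 ∧ Nat.card (stabilizer G D.a) = 2 ^ k * 3 := by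
  rcases D.isSym_or_card with hs | h3
  · obtain ⟨St, rfl⟩ := D.exists_stage hs
    refine ⟨St.n, St.n_le_four, ?_⟩
    have := St.card_vertex
    rw [Data.S_self, show St.D.f St.g 0 = St.D.a by simp [Data.f]] at this
    rw [this, mul_comm]
  · exact ⟨0, by omega, by rw [h3]; rfl⟩

end Cfsg.Agent.Perm.CubicSuborbit
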